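import Groth.Agent.WittDesc.Frame

/-!
# Descent of finite projective modules from matrix data
-/

set_option autoImplicit false
set_option backward.isDefEq.respectTransparency false
set_option backward.isDefEq.respectTransparency.types false
set_option linter.unusedSectionVars false

universe u

open CategoryTheory Opposite TensorProduct ModuleCat Matrix
open scoped ChangeOfRings

namespace Groth.WittDesc

open Groth.DescentBase.RingDD (et liftE liftE_et et_induction smul_et et_smul et_add et_add_left et_zero f0)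

variable {G : (CommRingCat.{u}ᵒᵖ)ᵒᵖ ⥤ CommRingCat.{u}} {R S : Type u} [CommRing R] [CommRing S] [Algebra R S]

theorem fq_f0_eq {C : CommRingCat.{u}} (g₁ g₂ : op C ⟶ op (CommRingCat.of S))
    (h : g₁ ≫ f0 R S = g₂ ≫ f0 R S) (a : G.obj (op (op (CommRingCat.of R)))) :
    fq G g₁ (fq G (f0 R S) a) = fq G g₂ (fq G (f0 R S) a) :=
  (RingHom.congr_fun (fq_comp (G := G) (f0 R S) g₁) a).symm.trans
    ((congrArg (fun q => fq G q a) h).trans (RingHom.congr_fun (fq_comp (G := G) (f0 R S) g₂) a))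

theorem et_eq_smul {A C : CommRingCat.{u}} (g : op C ⟶ op A) (N : FMod G A) (t : G.obj (op (op C))) (m : N) :
    et (fq G g) N t m = t • et (fq G g) N 1 m := by rw [smul_et, mul_one]

theorem et_smul' {A C : CommRingCat.{u}} (g : op C ⟶ op A) (N : FMod G A) (a : G.obj (op (op A))) (m : N) :
    et (fq G g) N 1 (a • m) = fq G g a • et (fq G g) N 1 m := by rw [et_smul, smul_et]

variable {k : ℕ} (N : FMod G (CommRingCat.of R))
  (f : N →ₗ[G.obj (op (op (CommRingCat.of R)))] (Fin k → G.obj (op (op (CommRingCat.of R)))))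

theorem comm_of_cmp {A₁ C₁ : CommRingCat.{u}} {g₁ g₂ : op C₁ ⟶ op A₁} {X₁ X₂ : FMod G A₁} (φ φ' : X₁ ⟶ X₂)
    (d : (extendScalars (fq G g₁)).obj X₁ ⟶ (extendScalars (fq G g₂)).obj X₁)
    (d' : (extendScalars (fq G g₁)).obj X₂ ⟶ (extendScalars (fq G g₂)).obj X₂)
    (h : PF.cmp (G.toPseudofunctor.comp CommRingCat.moduleCatExtendScalarsPseudofunctor.{u}) (PF.mmap (G.toPseudofunctor.comp CommRingCat.moduleCatExtendScalarsPseudofunctor.{u}) g₁ φ) d' = PF.cmp (G.toPseudofunctor.comp CommRingCat.moduleCatExtendScalarsPseudofunctor.{u}) d (PF.mmap (G.toPseudofunctor.comp CommRingCat.moduleCatExtendScalarsPseudofunctor.{u}) g₂ φ')) :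
    (extendScalars (fq G g₁)).map φ ≫ d' = d ≫ (extendScalars (fq G g₂)).map φ' :=
  h

theorem cmp_of_comm {A₁ C₁ : CommRingCat.{u}} {g₁ g₂ : op C₁ ⟶ op A₁} {X₁ X₂ : FMod G A₁} (φ φ' : X₁ ⟶ X₂)
    (d : (extendScalars (fq G g₁)).obj X₁ ⟶ (extendScalars (fq G g₂)).obj X₁)
    (d' : (extendScalars (fq G g₁)).obj X₂ ⟶ (extendScalars (fq G g₂)).obj X₂)
    (h : (extendScalars (fq G g₁)).map φ ≫ d' = d ≫ (extendScalars (fq G g₂)).map φ') :
    PF.cmp (G.toPseudofunctor.comp CommRingCat.moduleCatExtendScalarsPseudofunctor.{u}) (PF.mmap (G.toPseudofunctor.comp CommRingCat.moduleCatExtendScalarsPseudofunctor.{u}) g₁ φ) d' = PF.cmp (G.toPseudofunctor.comp CommRingCat.moduleCatExtendScalarsPseudofunctor.{u}) d (PF.mmap (G.toPseudofunctor.comp CommRingCat.moduleCatExtendScalarsPseudofunctor.{u}) g₂ φ') :=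
  h

/-- Coordinates on `S ⊗ N`. -/
noncomputable def fCan : CN S N →ₗ[G.obj (op (op (CommRingCat.of S)))]
    (Fin k → G.obj (op (op (CommRingCat.of S)))) where
  toFun := co f (f0 R S)
  map_add' := map_add _
  map_smul' := co_smul f (f0 R S)

theorem fCan_wcel (n : N) : fCan N f (wcel (S := S) N n) = fq G (f0 R S) ∘ f n := co_et_one f (f0 R S) n

theorem co_canDh {C : CommRingCat.{u}} (g₁ g₂ : op C ⟶ op (CommRingCat.of S))
    (h : g₁ ≫ f0 R S = g₂ ≫ f0 R S)
    (Δ : (extendScalars (fq G g₁)).obj (CN S N) ⟶ (extendScalars (fq G g₂)).obj (CN S N))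
    (hΔ : ∀ n, Δ (et (fq G g₁) (CN S N) 1 (wcel N n)) = et (fq G g₂) (CN S N) 1 (wcel N n))
    (y : (extendScalars (fq G g₁)).obj (CN S N)) :
    co (fCan N f) g₂ (Δ y) = co (fCan N f) g₁ y := by
  induction y using et_induction with
  | h0 => rw [map_zero, map_zero, map_zero]
  | ha a b ha hb => rw [map_add, map_add, map_add, ha, hb]
  | ht t x =>
    have key : ∀ x : (extendScalars (fq G (f0 R S))).obj N,
        co (fCan N f) g₂ (Δ (et (fq G g₁) (CN S N) 1 x)) =
          fq G g₁ ∘ fCan N f x := by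
      intro x
      induction x using et_induction with
      | h0 =>
        rw [et_zero, map_zero, map_zero]
        funext i
        rw [Function.comp_apply, map_zero]
        exact (map_zero _).symm
      | ha a b ha hb =>
        rw [et_add, map_add, map_add, ha, hb]
        funext i
        rw [Pi.add_apply, Function.comp_apply, Function.comp_apply, Function.comp_apply, map_add, Pi.add_apply, map_add]
      | ht s n =>
        have hs : et (fq G (f0 R S)) N s n = (s • wcel N n : CN S N) :=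
          et_eq_smul (f0 R S) N s n
        rw [hs, et_smul', map_smul, hΔ, co_smul, co_et_one, map_smul, fCan_wcel]
        funext i
        simp only [Pi.smul_apply, Function.comp_apply, smul_eq_mul, map_mul, fq_f0_eq g₁ g₂ h]
    rw [et_eq_smul g₁ (CN S N) t x, map_smul, co_smul, co_smul, key x, co_et_one]

variable {N f} {s : (Fin k → G.obj (op (op (CommRingCat.of R)))) →ₗ[G.obj (op (op (CommRingCat.of R)))] N}

theorem wcel_injective (hsf : ∀ n, s (f n) = n) (hinj : Function.Injective (fq G (f0 R S))) :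
    Function.Injective (wcel (S := S) N) := fun a b hab => by
  have h := congrArg (fCan N f) hab
  rw [fCan_wcel, fCan_wcel] at h
  have h' : f a = f b := hinj.comp_left h
  rw [← hsf a, ← hsf b, h']

theorem exists_wcel_of_fixed (hsf : ∀ n, s (f n) = n)
    (heq : ∀ b, fq G (opHom (a1 R S).toRingHom) b = fq G (opHom (a2 R S).toRingHom) b →
      ∃ a, fq G (f0 R S) a = b)
    (y : CN S N)
    (Δ : (extendScalars (fq G (opHom (a1 R S).toRingHom))).obj (CN S N) ⟶
      (extendScalars (fq G (opHom (a2 R S).toRingHom))).obj (CN S N))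
    (hΔ : ∀ n, Δ (et (fq G (opHom (a1 R S).toRingHom)) (CN S N) 1 (wcel N n)) =
      et (fq G (opHom (a2 R S).toRingHom)) (CN S N) 1 (wcel N n))
    (hy : Δ (et (fq G (opHom (a1 R S).toRingHom)) (CN S N) 1 y) =
        et (fq G (opHom (a2 R S).toRingHom)) (CN S N) 1 y) :
    ∃ n, wcel N n = y := by
  have h := congrArg (co (fCan N f) (opHom (a2 R S).toRingHom)) hy
  rw [co_canDh N f _ _ (opHom_a_condition R S) Δ hΔ, co_et_one, co_et_one] at h
  choose a ha using fun j => heq (fCan N f y j) (congrFun h j)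
  refine ⟨∑ j, a j • gen s j, ?_⟩
  let E : N →+ CN S N :=
    AddMonoidHom.mk' (fun x => wcel N x) fun x z => et_add _ _ _ _ _
  change E _ = y
  rw [map_sum]
  conv_rhs => rw [eq_sum_co hsf (f0 R S) y]
  refine Finset.sum_congr rfl fun j _ => ?_
  change et (fq G (f0 R S)) N 1 (a j • gen s j) = _
  rw [et_smul', ha]
  rfl

theorem hom_wcel {M N' : FMod G (CommRingCat.of R)} (l : M ⟶ N') (m : M) :
    (show CN S M ⟶ WN (canW (S := S) N') from ((toWDD G R S).map l).hom PUnit.unit)
      (wcel M m) = wcel N' (l m) :=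
  rfl

theorem hom_ext_wcel {M : FMod G (CommRingCat.of R)} {P : FMod G (CommRingCat.of S)}
    {α β : CN S M ⟶ P} (h : ∀ m, α (wcel M m) = β (wcel M m)) : α = β :=
  ExtendScalars.hom_ext h

theorem fixed_of_comm {M : FMod G (CommRingCat.of R)} {C : CommRingCat.{u}}
    {g₁ g₂ : op C ⟶ op (CommRingCat.of S)} (φ : CN S M ⟶ CN S N)
    (Δ : (extendScalars (fq G g₁)).obj (CN S M) ⟶ (extendScalars (fq G g₂)).obj (CN S M))
    (Δ' : (extendScalars (fq G g₁)).obj (CN S N) ⟶ (extendScalars (fq G g₂)).obj (CN S N))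
    (hΔ : ∀ m, Δ (et (fq G g₁) (CN S M) 1 (wcel M m)) = et (fq G g₂) (CN S M) 1 (wcel M m))
    (hc : (extendScalars (fq G g₁)).map φ ≫ Δ' = Δ ≫ (extendScalars (fq G g₂)).map φ) (m : M) :
    Δ' (et (fq G g₁) (CN S N) 1 (φ (wcel M m))) = et (fq G g₂) (CN S N) 1 (φ (wcel M m)) := by
  have h := congr($hc (et (fq G g₁) (CN S M) 1 (wcel M m)))
  rw [ModuleCat.comp_apply, ModuleCat.comp_apply, Groth.DescentBase.RingDD.map_et, hΔ,
    Groth.DescentBase.RingDD.map_et] at h
  exact h

/-- Morphisms of finite projective modules are morphisms of the canonical data. -/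
theorem map_bijective {M : FMod G (CommRingCat.of R)} (hsf : ∀ n, s (f n) = n)
    (hinj : Function.Injective (fq G (f0 R S)))
    (heq : ∀ b, fq G (opHom (a1 R S).toRingHom) b = fq G (opHom (a2 R S).toRingHom) b →
      ∃ a, fq G (f0 R S) a = b) :
    Function.Bijective (fun l : M ⟶ N => (toWDD G R S).map l) := by
  have hi := wcel_injective (S := S) hsf hinj
  constructor
  · intro l l' hl
    refine ModuleCat.hom_ext (LinearMap.ext fun m => hi ?_)
    change wcel N (l m) = wcel N (l' m)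
    rw [← hom_wcel l m, ← hom_wcel l' m]
    exact congr((show CN S M ⟶ CN S N from ($hl).hom PUnit.unit) (wcel M m))
  · intro Φ
    let φ : CN S M ⟶ CN S N := Φ.hom PUnit.unit
    let g₁ := opHom (a1 R S).toRingHom
    let g₂ := opHom (a2 R S).toRingHom
    have hcomm : (extendScalars (fq G g₁)).map φ ≫ canDh N g₁ g₂ (opHom_a_condition R S) =
        canDh M g₁ g₂ (opHom_a_condition R S) ≫ (extendScalars (fq G g₂)).map φ :=
      comm_of_cmp φ φ (canDh M g₁ g₂ (opHom_a_condition R S)) (canDh N g₁ g₂ (opHom_a_condition R S))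
        (PF.comm_eq Φ (g₁ ≫ f0 R S) g₁ g₂ rfl (opHom_a_condition R S).symm)
    have hex : ∃ (ΔM : (extendScalars (fq G g₁)).obj (CN S M) ⟶ (extendScalars (fq G g₂)).obj (CN S M))
        (ΔN : (extendScalars (fq G g₁)).obj (CN S N) ⟶ (extendScalars (fq G g₂)).obj (CN S N)),
        (∀ m, ΔM (et (fq G g₁) (CN S M) 1 (wcel M m)) = et (fq G g₂) (CN S M) 1 (wcel M m)) ∧
        (∀ n, ΔN (et (fq G g₁) (CN S N) 1 (wcel N n)) = et (fq G g₂) (CN S N) 1 (wcel N n)) ∧
        (extendScalars (fq G g₁)).map φ ≫ ΔN = ΔM ≫ (extendScalars (fq G g₂)).map φ :=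
      ⟨canDh M g₁ g₂ (opHom_a_condition R S), canDh N g₁ g₂ (opHom_a_condition R S),
        canDh_et M g₁ g₂ (opHom_a_condition R S), canDh_et N g₁ g₂ (opHom_a_condition R S), hcomm⟩
    obtain ⟨ΔM, ΔN, hM, hN, hMN⟩ := hex
    have hfix : ∀ m, ∃ n, wcel N n = φ (wcel M m) := fun m =>
      exists_wcel_of_fixed hsf heq _ ΔN hN (fixed_of_comm φ ΔM ΔN hM hMN m)
    choose g hg using hfix
    let l : M ⟶ N := ModuleCat.ofHom
      { toFun := g
        map_add' := fun m m' => hi (by
          rw [hg, wcel, et_add, map_add, wcel, et_add]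
          exact (congrArg₂ (· + ·) (hg m) (hg m')).symm)
        map_smul' := fun r m => hi (by
          rw [RingHom.id_apply, hg, wcel, et_smul', map_smul, wcel, et_smul']
          exact congrArg _ (hg m).symm) }
    refine ⟨l, Pseudofunctor.DescentData.hom_ext fun i => hom_ext_wcel (M := M) fun m => ?_⟩
    exact (hom_wcel l m).trans (hg m)

section Eff

variable {D : WDD G R S}
  {fD : WN D →ₗ[G.obj (op (op (CommRingCat.of S)))] (Fin k → G.obj (op (op (CommRingCat.of S))))}
  {sD : (Fin k → G.obj (op (op (CommRingCat.of S)))) →ₗ[G.obj (op (op (CommRingCat.of S)))] WN D}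
  {l : ℕ} {Q : Matrix (Fin l) (Fin l) (G.obj (op (op (CommRingCat.of R))))}
  {Y : Matrix (Fin k) (Fin l) (G.obj (op (op (CommRingCat.of S))))}
  {Z : Matrix (Fin l) (Fin k) (G.obj (op (op (CommRingCat.of S))))}

variable (Q) in
/-- The module cut out by `Q`. -/
abbrev qMod : FMod G (CommRingCat.of R) := ModuleCat.of _ (LinearMap.range Q.mulVecLin)

variable (sD Q Y) in
/-- The comparison map. -/
noncomputable def cmpMap : CN S (qMod Q) →+ WN D :=
  liftE (fq G (f0 R S)) (qMod Q)
    (AddMonoidHom.mk' (fun t => AddMonoidHom.mk'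
      (fun v => t • sD (Y *ᵥ (fq G (f0 R S) ∘ (v : Fin l → G.obj (op (op (CommRingCat.of R))))))) fun v v' => by
        rw [← smul_add, ← map_add, ← mulVec_add]
        congr 3
        funext i
        exact map_add _ _ _)
      fun t t' => by
        ext v
        exact add_smul t t' _)
    fun a t v => by
      change (fq G (f0 R S) a * t) • sD (Y *ᵥ _) = t • sD (Y *ᵥ (fq G (f0 R S) ∘
        (a • (v : Fin l → G.obj (op (op (CommRingCat.of R)))))))
      have h : fq G (f0 R S) ∘ (a • (v : Fin l → G.obj (op (op (CommRingCat.of R))))) =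
          fq G (f0 R S) a • (fq G (f0 R S) ∘ (v : Fin l → G.obj (op (op (CommRingCat.of R))))) := by
        funext i
        simp [Function.comp_apply]
      rw [h, mulVec_smul, map_smul, smul_smul, mul_comm]

theorem cmpMap_wcel (v : qMod Q) :
    cmpMap sD Q Y (wcel (qMod Q) v) =
      sD (Y *ᵥ (fq G (f0 R S) ∘ (v : Fin l → G.obj (op (op (CommRingCat.of R)))))) :=
  one_smul _ _

theorem cmpMap_smul (t : G.obj (op (op (CommRingCat.of S)))) (x : CN S (qMod Q)) :
    cmpMap sD Q Y (t • x) = t • cmpMap sD Q Y x := by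
  induction x using et_induction with
  | h0 => rw [smul_zero, map_zero, smul_zero]
  | ht r v => exact mul_smul t r _
  | ha a b ha hb => rw [smul_add, map_add, map_add, smul_add, ha, hb]

/-- The comparison map commutes with descent morphisms. -/
theorem comm_of_fixed (hsf : ∀ m, sD (fD m) = m) (hY : (toDat hsf).e * Y = Y)
    (hΦ : (toDat hsf).Φ * Y.map (fq G (opHom (a1 R S).toRingHom)) = Y.map (fq G (opHom (a2 R S).toRingHom)))
    {C : CommRingCat.{u}} (g₁ g₂ : op C ⟶ op (CommRingCat.of S)) (h : g₁ ≫ f0 R S = g₂ ≫ f0 R S)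
    (φ : CN S (qMod Q) ⟶ WN D) (hφ : ∀ x, φ x = cmpMap sD Q Y x)
    (Δ : (extendScalars (fq G g₁)).obj (CN S (qMod Q)) ⟶ (extendScalars (fq G g₂)).obj (CN S (qMod Q)))
    (hΔ : ∀ v, Δ (et (fq G g₁) (CN S (qMod Q)) 1 (wcel (qMod Q) v)) =
      et (fq G g₂) (CN S (qMod Q)) 1 (wcel (qMod Q) v)) :
    (extendScalars (fq G g₁)).map φ ≫ wdh D g₁ g₂ h = Δ ≫ (extendScalars (fq G g₂)).map φ := by
  refine ExtendScalars.hom_ext fun y => ?_
  have hfs : ∀ v : qMod Q,
      fD (sD (Y *ᵥ (fq G (f0 R S) ∘ (v : Fin l → G.obj (op (op (CommRingCat.of R))))))) =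
        Y *ᵥ (fq G (f0 R S) ∘ (v : Fin l → G.obj (op (op (CommRingCat.of R))))) := fun v => by
    rw [← toDat_e_mulVec hsf, mulVec_mulVec, hY]
  let ι := fq G (f0 R S)
  change wdh D g₁ g₂ h (et (fq G g₁) (WN D) 1 (φ y)) =
    (extendScalars (fq G g₂)).map φ (Δ (et (fq G g₁) (CN S (qMod Q)) 1 y))
  rw [hφ]
  induction y using et_induction with
  | h0 =>
    have h0' : et (fq G g₁) (WN D) 1 (cmpMap sD Q Y 0) = 0 := by rw [map_zero]; exact et_zero _ _ _
    rw [et_zero, h0', map_zero, map_zero, map_zero]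
  | ha a b ha hb => rw [map_add, et_add, et_add, map_add, map_add, map_add, ha, hb]
  | ht t v =>
    have ht : et (fq G (f0 R S)) (qMod Q) t v = (t • wcel (qMod Q) v : CN S (qMod Q)) :=
      et_eq_smul (f0 R S) (qMod Q) t v
    rw [ht, cmpMap_smul, et_smul', et_smul', map_smul, map_smul, map_smul, hΔ,
      Groth.DescentBase.RingDD.map_et, hφ]
    refine congrArg _ ?_
    obtain ⟨q₂, e₁, e₂⟩ := exists_factor g₁ g₂ h
    have hx : ∀ {C' : CommRingCat.{u}} (g : op C' ⟶ op (CommRingCat.of S)),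
        co fD g (et (fq G g) (WN D) 1 (cmpMap sD Q Y (wcel (qMod Q) v))) =
          Y.map (fq G g) *ᵥ (fq G g ∘ (ι ∘ (v : Fin l → G.obj (op (op (CommRingCat.of R)))))) := fun g => by
      rw [co_et_one, cmpMap_wcel, hfs]
      exact comp_mulVec (fq G g) Y _
    have h0 : wdh D (opHom (a1 R S).toRingHom) (opHom (a2 R S).toRingHom) (opHom_a_condition R S)
        (et (fq G (opHom (a1 R S).toRingHom)) (WN D) 1 (cmpMap sD Q Y (wcel (qMod Q) v))) =
        et (fq G (opHom (a2 R S).toRingHom)) (WN D) 1 (cmpMap sD Q Y (wcel (qMod Q) v)) := by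
      refine co_injective hsf _ ?_
      rw [co_wdh_a hsf, hx, ← co_et_one fD, hx, mulVec_mulVec]
      change ((toDat hsf).Φ * _) *ᵥ _ = _
      rw [hΦ]
      refine congrArg _ ?_
      funext i
      exact fq_f0_eq _ _ (opHom_a_condition R S) _
    rw [wdh_bc D q₂ _ _ (opHom_a_condition R S) g₁ g₂ e₁ e₂, h0, wbc_et, map_one]


/-- A frame gives an isomorphism with a canonical descent datum. -/
theorem nonempty_canW_iso (hsf : ∀ m, sD (fD m) = m) (hQ : Q * Q = Q) (hY : (toDat hsf).e * Y = Y)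
    (hΦ : (toDat hsf).Φ * Y.map (fq G (opHom (a1 R S).toRingHom)) = Y.map (fq G (opHom (a2 R S).toRingHom)))
    (hYZ : Y * Z = (toDat hsf).e) (hZY : Z * Y = Q.map (fq G (f0 R S))) :
    Nonempty (canW (qMod Q) ≅ D) := by
  let ι := fq G (f0 R S)
  have hQv : ∀ v : qMod Q, Q *ᵥ (v : Fin l → G.obj (op (op (CommRingCat.of R)))) = v := fun v => by
    obtain ⟨w, hw⟩ := v.2
    rw [← hw]
    change Q *ᵥ (Q *ᵥ w) = Q *ᵥ w
    rw [mulVec_mulVec, hQ]
  have hZv : ∀ v : qMod Q,
      Z *ᵥ (Y *ᵥ (ι ∘ (v : Fin l → G.obj (op (op (CommRingCat.of R)))))) = ι ∘ (v : Fin l → G.obj (op (op (CommRingCat.of R)))) := fun v => by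
    rw [mulVec_mulVec, hZY]
    exact (comp_mulVec ι Q _).symm.trans (congrArg (ι ∘ ·) (hQv v))
  have hfs : ∀ v : qMod Q,
      fD (sD (Y *ᵥ (ι ∘ (v : Fin l → G.obj (op (op (CommRingCat.of R))))))) =
        Y *ᵥ (ι ∘ (v : Fin l → G.obj (op (op (CommRingCat.of R))))) := fun v => by
    rw [← toDat_e_mulVec hsf, mulVec_mulVec, hY]
  let col : Fin l → qMod Q := fun j => ⟨Q *ᵥ Pi.single j 1, ⟨_, rfl⟩⟩
  let inv : WN D → CN S (qMod Q) := fun m =>
    ∑ j, (Z *ᵥ fD m) j • wcel (qMod Q) (col j)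
  have hinv_add : ∀ a b, inv (a + b) = inv a + inv b := fun a b => by
    simp only [inv, map_add, mulVec_add, Pi.add_apply, add_smul, Finset.sum_add_distrib]
  have hinv_smul : ∀ (t : G.obj (op (op (CommRingCat.of S)))) (m : WN D), inv (t • m) = t • inv m := fun t m => by
    simp only [inv, map_smul, mulVec_smul, Pi.smul_apply, smul_eq_mul, mul_smul, Finset.smul_sum]
  have hli : ∀ x, inv (cmpMap sD Q Y x) = x := by
    intro x
    induction x using et_induction with
    | h0 =>
      rw [map_zero]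
      have := hinv_smul 0 0
      rwa [zero_smul, zero_smul] at this
    | ha a b ha hb => rw [map_add, hinv_add, ha, hb]
    | ht t v =>
      have ht : et (fq G (f0 R S)) (qMod Q) t v = (t • wcel (qMod Q) v : CN S (qMod Q)) :=
        et_eq_smul (f0 R S) (qMod Q) t v
      rw [ht, cmpMap_smul, hinv_smul, cmpMap_wcel]
      congr 1
      change (∑ j, (Z *ᵥ fD (sD (Y *ᵥ (ι ∘ (v : Fin l → G.obj (op (op (CommRingCat.of R)))))))) j •
        wcel (qMod Q) (col j)) = _
      rw [hfs v, hZv v]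
      have hv : v = ∑ j, (v : Fin l → G.obj (op (op (CommRingCat.of R)))) j • col j := by
        refine Subtype.ext ?_
        conv_lhs => rw [← hQv v, pi_eq_sum_univ' (v : Fin l → G.obj (op (op (CommRingCat.of R))))]
        rw [mulVec_sum, AddSubmonoidClass.coe_finsetSum]
        exact Finset.sum_congr rfl fun j _ => mulVec_smul Q _ _
      let E : qMod Q →+ CN S (qMod Q) :=
        AddMonoidHom.mk' (fun w => wcel (qMod Q) w) fun w z => et_add _ _ _ _ _
      change _ = E v
      conv_rhs => rw [hv, map_sum]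
      refine Finset.sum_congr rfl fun j _ => ?_
      change _ = et (fq G (f0 R S)) (qMod Q) 1 _
      rw [et_smul']
      rfl
  have hri : ∀ m, cmpMap sD Q Y (inv m) = m := fun m => by
    simp only [inv, map_sum, cmpMap_smul, cmpMap_wcel]
    have h1 : ∀ j, ι ∘ (col j : Fin l → G.obj (op (op (CommRingCat.of R)))) = Q.map ι *ᵥ Pi.single j 1 := fun j => by
      refine (comp_mulVec ι Q _).trans (congrArg _ ?_)
      funext i
      rcases eq_or_ne i j with rfl | hij
      · simp
      · simp [Pi.single_eq_of_ne hij]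
    simp only [← map_smul, ← map_sum]
    rw [← hsf m]
    congr 1
    rw [hsf m]
    calc ∑ j, (Z *ᵥ fD m) j • (Y *ᵥ (ι ∘ (col j : Fin l → G.obj (op (op (CommRingCat.of R))))))
        = Y *ᵥ (Q.map ι *ᵥ (∑ j, (Z *ᵥ fD m) j • Pi.single j 1)) := by
          simp only [h1, mulVec_sum, mulVec_smul]
      _ = (Y * Z * Y * Z) *ᵥ fD m := by
          rw [← pi_eq_sum_univ', ← hZY, mulVec_mulVec, mulVec_mulVec]
          simp only [Matrix.mul_assoc]
      _ = fD m := by
          rw [hYZ, hY, hYZ, toDat_e_mulVec hsf, hsf]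
  let eL : CN S (qMod Q) ≃ₗ[G.obj (op (op (CommRingCat.of S)))] WN D :=
    { toFun := cmpMap sD Q Y
      map_add' := map_add _
      map_smul' := cmpMap_smul
      invFun := inv
      left_inv := hli
      right_inv := hri }
  let E : CN S (qMod Q) ≅ WN D := eL.toModuleIso
  refine PF.nonempty_iso E ?_
  intro C g₁ g₂ h
  refine cmp_of_comm E.hom E.hom (canDh (qMod Q) g₁ g₂ h) (wdh D g₁ g₂ h) ?_
  exact comm_of_fixed hsf hY hΦ g₁ g₂ h E.hom (fun _ => rfl) (canDh (qMod Q) g₁ g₂ h)
    (fun v => canDh_et (qMod Q) g₁ g₂ h v)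

theorem qMod_finite : Module.Finite (G.obj (op (op (CommRingCat.of R)))) (qMod Q) :=
  Module.Finite.range _

theorem qMod_projective (hQ : Q * Q = Q) : Module.Projective (G.obj (op (op (CommRingCat.of R)))) (qMod Q) :=
  Module.Projective.of_split (LinearMap.range Q.mulVecLin).subtype Q.mulVecLin.rangeRestrict
    (LinearMap.ext fun v => Subtype.ext (by
      obtain ⟨w, hw⟩ := v.2
      change Q *ᵥ (v : Fin l → G.obj (op (op (CommRingCat.of R)))) = v
      rw [← hw]
      change Q *ᵥ (Q *ᵥ w) = Q *ᵥ w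
      rw [mulVec_mulVec, hQ]))

end Eff

end Groth.WittDesc
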