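import Mathlib
import Groth.Prelude.Def_WittGrp

/-!
# The last component of truncated Witt vectors

The ghost component `W_{n+1}(C) → C`, the top Verschiebung `C → W_{n+1}(C)` and the kernels of truncation.
-/

set_option autoImplicit false

universe u

namespace Groth.WittDesc

open TruncatedWittVector

variable (p : ℕ) [hp : Fact p.Prime]

/-- The first component, as a ring map. -/
noncomputable def c0 (n : ℕ) (C : Type u) [CommRing C] : TruncatedWittVector p (n + 1) C →+* C where
  toFun x := x.coeff 0
  map_one' := by
    rw [← map_one (WittVector.truncate (p := p) (R := C) (n + 1)), WittVector.coeff_truncate]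
    exact WittVector.one_coeff_zero p C
  map_mul' x y := by
    obtain ⟨X, rfl⟩ := WittVector.truncate_surjective p (n + 1) C x
    obtain ⟨Y, rfl⟩ := WittVector.truncate_surjective p (n + 1) C y
    rw [← map_mul]
    simp only [WittVector.coeff_truncate]
    exact WittVector.mul_coeff_zero X Y
  map_zero' := by
    rw [← map_zero (WittVector.truncate (p := p) (R := C) (n + 1)), WittVector.coeff_truncate,
      WittVector.zero_coeff]
  map_add' x y := by
    obtain ⟨X, rfl⟩ := WittVector.truncate_surjective p (n + 1) C x
    obtain ⟨Y, rfl⟩ := WittVector.truncate_surjective p (n + 1) C y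
    rw [← map_add]
    simp only [WittVector.coeff_truncate]
    exact WittVector.add_coeff_zero X Y

theorem c0_apply (n : ℕ) {C : Type u} [CommRing C] (x : TruncatedWittVector p (n + 1) C) :
    c0 p n C x = x.coeff 0 := rfl

/-- The value of the last Witt polynomial. -/
noncomputable def ghFun (n : ℕ) {C : Type u} [CommRing C] (x : TruncatedWittVector p (n + 1) C) : C :=
  ∑ i : Fin (n + 1), (p : C) ^ (i : ℕ) * x.coeff i ^ p ^ (n - (i : ℕ))

theorem ghFun_truncate (n : ℕ) {C : Type u} [CommRing C] (X : WittVector p C) :
    ghFun p n (WittVector.truncate (n + 1) X) = WittVector.ghostComponent n X := by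
  rw [WittVector.ghostComponent_apply, wittPolynomial_eq_sum_C_mul_X_pow]
  simp only [ghFun, WittVector.coeff_truncate]
  rw [Fin.sum_univ_eq_sum_range (fun i => (p : C) ^ i * X.coeff i ^ p ^ (n - i)) (n + 1)]
  simp

/-- The last ghost component, as a ring map. -/
noncomputable def gh (n : ℕ) (C : Type u) [CommRing C] : TruncatedWittVector p (n + 1) C →+* C where
  toFun := ghFun p n
  map_one' := by
    rw [← map_one (WittVector.truncate (p := p) (R := C) (n + 1)), ghFun_truncate, map_one]
  map_mul' x y := by
    obtain ⟨X, rfl⟩ := WittVector.truncate_surjective p (n + 1) C x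
    obtain ⟨Y, rfl⟩ := WittVector.truncate_surjective p (n + 1) C y
    rw [← map_mul, ghFun_truncate, ghFun_truncate, ghFun_truncate, map_mul]
  map_zero' := by
    rw [← map_zero (WittVector.truncate (p := p) (R := C) (n + 1)), ghFun_truncate, map_zero]
  map_add' x y := by
    obtain ⟨X, rfl⟩ := WittVector.truncate_surjective p (n + 1) C x
    obtain ⟨Y, rfl⟩ := WittVector.truncate_surjective p (n + 1) C y
    rw [← map_add, ghFun_truncate, ghFun_truncate, ghFun_truncate, map_add]

theorem gh_truncMap (n : ℕ) {A B : Type u} [CommRing A] [CommRing B] (f : A →+* B)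
    (x : TruncatedWittVector p (n + 1) A) :
    gh p n B (WittGrp.truncMap p (n + 1) f x) = f (gh p n A x) := by
  change ghFun p n _ = f (ghFun p n x)
  simp only [ghFun, WittGrp.coeff_truncMap, map_sum, map_mul, map_pow, map_natCast]

theorem c0_truncMap (n : ℕ) {A B : Type u} [CommRing A] [CommRing B] (f : A →+* B)
    (x : TruncatedWittVector p (n + 1) A) :
    c0 p n B (WittGrp.truncMap p (n + 1) f x) = f (c0 p n A x) :=
  WittGrp.coeff_truncMap p (n + 1) f x 0

theorem c0_surjective (n : ℕ) (C : Type u) [CommRing C] : Function.Surjective (c0 p n C) :=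
  fun r => ⟨TruncatedWittVector.mk p fun _ => r, (c0_apply p n _).trans (TruncatedWittVector.coeff_mk _ _)⟩

theorem c0_injective_zero (C : Type u) [CommRing C] : Function.Injective (c0 p 0 C) := fun x y h =>
  TruncatedWittVector.ext fun i => by rwa [Fin.fin_one_eq_zero i]

theorem vtop_aux (n : ℕ) {C : Type u} [CommRing C] (X : WittVector p C) :
    (TruncatedWittVector.mk p fun i : Fin (n + 1) => if (i : ℕ) = n then X.coeff 0 else 0) =
      WittVector.truncate (n + 1) (WittVector.verschiebung^[n] X) := by
  refine TruncatedWittVector.ext fun i => ?_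
  rw [TruncatedWittVector.coeff_mk, WittVector.coeff_truncate]
  split_ifs with hi
  · rw [hi]
    have := WittVector.iterate_verschiebung_coeff X n 0
    rwa [zero_add, eq_comm] at this
  · rw [WittVector.iterate_verschiebung_coeff_eq_zero]
    have := i.2
    omega

/-- `r ↦ V^n [r]`. -/
noncomputable def vtop (n : ℕ) (C : Type u) [CommRing C] : C →+ TruncatedWittVector p (n + 1) C :=
  AddMonoidHom.mk' (fun r => TruncatedWittVector.mk p fun i : Fin (n + 1) => if (i : ℕ) = n then r else 0)
    fun r s => by
      have h := vtop_aux p n (WittVector.teichmuller p r + WittVector.teichmuller p s)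
      rw [WittVector.add_coeff_zero, WittVector.teichmuller_coeff_zero, WittVector.teichmuller_coeff_zero,
        iterate_map_add, map_add, ← vtop_aux, ← vtop_aux, WittVector.teichmuller_coeff_zero,
        WittVector.teichmuller_coeff_zero] at h
      exact h

theorem coeff_vtop (n : ℕ) {C : Type u} [CommRing C] (r : C) (i : Fin (n + 1)) :
    (vtop p n C r).coeff i = if (i : ℕ) = n then r else 0 :=
  TruncatedWittVector.coeff_mk _ _

theorem vtop_coeff_zero (n : ℕ) {C : Type u} [CommRing C] (X : WittVector p C) :
    vtop p n C (X.coeff 0) = WittVector.truncate (n + 1) (WittVector.verschiebung^[n] X) :=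
  vtop_aux p n X

theorem vtop_injective (n : ℕ) (C : Type u) [CommRing C] : Function.Injective (vtop p n C) := fun r s h => by
  have := congrArg (fun z => TruncatedWittVector.coeff (Fin.last n) z) h
  simpa only [coeff_vtop, Fin.val_last, if_true] using this

theorem truncMap_vtop (n : ℕ) {A B : Type u} [CommRing A] [CommRing B] (f : A →+* B) (r : A) :
    WittGrp.truncMap p (n + 1) f (vtop p n A r) = vtop p n B (f r) :=
  TruncatedWittVector.ext fun i => by
    simp only [WittGrp.coeff_truncMap, coeff_vtop, apply_ite f, map_zero]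

theorem ghostComponent_iterate_frobenius {C : Type u} [CommRing C] (Y : WittVector p C) (n : ℕ) :
    ∀ m, WittVector.ghostComponent m (WittVector.frobenius^[n] Y) = WittVector.ghostComponent (m + n) Y := by
  induction n with
  | zero => intro m; rfl
  | succ n ih =>
    intro m
    rw [Function.iterate_succ', Function.comp_apply, WittVector.ghostComponent_frobenius, ih]
    rw [Nat.add_right_comm]; rfl

theorem mul_vtop (n : ℕ) {C : Type u} [CommRing C] (w : TruncatedWittVector p (n + 1) C) (r : C) :
    w * vtop p n C r = vtop p n C (gh p n C w * r) := by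
  obtain ⟨Y, rfl⟩ := WittVector.truncate_surjective p (n + 1) C w
  have hr : r = (WittVector.teichmuller p r).coeff 0 := (WittVector.teichmuller_coeff_zero p r).symm
  conv_lhs => rw [hr]
  rw [vtop_coeff_zero, ← map_mul, mul_comm Y, WittVector.iterate_verschiebung_mul_left, ← vtop_coeff_zero,
    WittVector.mul_coeff_zero, WittVector.teichmuller_coeff_zero, mul_comm]
  congr 2
  have h0 : ∀ Z : WittVector p C, WittVector.ghostComponent 0 Z = Z.coeff 0 := fun Z => by
    rw [← ghFun_truncate]
    simp [ghFun, WittVector.coeff_truncate]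
  rw [← h0, ghostComponent_iterate_frobenius, zero_add]
  exact (ghFun_truncate p n Y).symm

/-- The truncation `W_{n+2} → W_{n+1}`. -/
noncomputable abbrev tr (n : ℕ) (C : Type u) [CommRing C] :
    TruncatedWittVector p (n + 2) C →+* TruncatedWittVector p (n + 1) C :=
  TruncatedWittVector.truncate (Nat.le_succ (n + 1))

theorem tr_truncMap (n : ℕ) {A B : Type u} [CommRing A] [CommRing B] (f : A →+* B)
    (x : TruncatedWittVector p (n + 2) A) :
    tr p n B (WittGrp.truncMap p (n + 2) f x) = WittGrp.truncMap p (n + 1) f (tr p n A x) :=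
  (WittGrp.truncMap_truncateLE p (Nat.le_succ (n + 1)) f x).symm

theorem c0_tr (n : ℕ) {C : Type u} [CommRing C] (x : TruncatedWittVector p (n + 2) C) :
    c0 p n C (tr p n C x) = c0 p (n + 1) C x := by
  rw [c0_apply, c0_apply, TruncatedWittVector.coeff_truncate]
  rfl

theorem tr_surjective (n : ℕ) (C : Type u) [CommRing C] : Function.Surjective (tr p n C) :=
  TruncatedWittVector.truncate_surjective _

theorem tr_vtop (n : ℕ) {C : Type u} [CommRing C] (r : C) : tr p n C (vtop p (n + 1) C r) = 0 :=
  TruncatedWittVector.ext fun i => by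
    rw [TruncatedWittVector.coeff_truncate, coeff_vtop, TruncatedWittVector.coeff_zero, if_neg]
    have := i.2
    simp only [Fin.val_castLE]
    omega

theorem exists_vtop_of_tr_eq_zero (n : ℕ) {C : Type u} [CommRing C] (x : TruncatedWittVector p (n + 2) C)
    (hx : tr p n C x = 0) : ∃ r, vtop p (n + 1) C r = x := by
  refine ⟨x.coeff (Fin.last (n + 1)), TruncatedWittVector.ext fun i => ?_⟩
  rw [coeff_vtop]
  split_ifs with hi
  · congr 1
    exact Fin.ext hi.symm
  · have hlt : (i : ℕ) < n + 1 := by have := i.2; omega
    have h := congrArg (fun z => TruncatedWittVector.coeff ⟨i, hlt⟩ z) hx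
    simp only [TruncatedWittVector.coeff_truncate, TruncatedWittVector.coeff_zero] at h
    exact h.symm

theorem gh_vtop (n : ℕ) {C : Type u} [CommRing C] (r : C) : gh p n C (vtop p n C r) = (p : C) ^ n * r := by
  change ghFun p n _ = _
  simp only [ghFun, coeff_vtop]
  rw [Finset.sum_eq_single (Fin.last n)]
  · simp
  · intro i _ hi
    have : (i : ℕ) ≠ n := fun h => hi (Fin.ext h)
    rw [if_neg this, zero_pow (pow_ne_zero _ hp.out.ne_zero), mul_zero]
  · exact fun h => absurd (Finset.mem_univ _) h

theorem pow_vtop (n : ℕ) {C : Type u} [CommRing C] (r : C) (m : ℕ) :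
    vtop p n C r ^ (m + 1) = vtop p n C (((p : C) ^ n * r) ^ m * r) := by
  induction m with
  | zero => simp
  | succ m ih => rw [pow_succ', ih, mul_vtop, gh_vtop]; congr 1; ring

/-- Elements with vanishing first component are nilpotent when `p` is nilpotent. -/
theorem isNilpotent_of_c0_eq_zero {C : Type u} [CommRing C] (hpC : IsNilpotent (p : C)) :
    ∀ (n : ℕ) (x : TruncatedWittVector p (n + 1) C), c0 p n C x = 0 → IsNilpotent x
  | 0, x, hx => by
    rw [c0_injective_zero p C (hx.trans (map_zero _).symm)]
    exact IsNilpotent.zero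
  | n + 1, x, hx => by
    obtain ⟨m, hm⟩ := isNilpotent_of_c0_eq_zero hpC n (tr p n C x) (by rw [c0_tr, hx])
    obtain ⟨r, hr⟩ := exists_vtop_of_tr_eq_zero p n (x ^ m) (by rw [map_pow, hm])
    obtain ⟨N, hN⟩ := hpC
    refine ⟨m * (N + 1), ?_⟩
    rw [pow_mul, ← hr, pow_vtop]
    have : ((p : C) ^ (n + 1) * r) ^ N = 0 := by
      rw [mul_pow, ← pow_mul, mul_comm (n + 1) N, pow_mul, hN, zero_pow (Nat.succ_ne_zero n), zero_mul]
    rw [this, zero_mul, map_zero]

end Groth.WittDesc
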