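import Groth.Agent.WittDesc.Amitsur
import Groth.Agent.WittDesc.Witt

/-!
# Descent of finite projective modules over truncated Witt vectors, in matrices
-/

set_option autoImplicit false

universe u

open Matrix TensorProduct

namespace Groth.WittDesc

variable (p : ℕ) [hp : Fact p.Prime] (R S : Type u) [CommRing R] [CommRing S] [Algebra R S]

/-- Descent data in matrices over truncated Witt vectors. -/
abbrev WDat (n k : ℕ) := Dat (WittGrp.truncMap p n (a1 R S).toRingHom)
  (WittGrp.truncMap p n (a2 R S).toRingHom) (WittGrp.truncMap p n (am R S).toRingHom)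
  (WittGrp.truncMap p n (a12 R S).toRingHom) (WittGrp.truncMap p n (a13 R S).toRingHom)
  (WittGrp.truncMap p n (a23 R S).toRingHom) k

variable {p R S} {n k : ℕ}

/-- The datum of first components. -/
noncomputable def push0 (D : WDat p R S (n + 1) k) : IdDat R S k :=
  D.push (c0 p n S) (c0 p n (S ⊗[R] S)) (c0 p n (S ⊗[R] (S ⊗[R] S)))
    (RingHom.ext fun x => c0_truncMap p n (a1 R S).toRingHom x)
    (RingHom.ext fun x => c0_truncMap p n (a2 R S).toRingHom x)
    (RingHom.ext fun x => c0_truncMap p n (am R S).toRingHom x)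
    (RingHom.ext fun x => c0_truncMap p n (a12 R S).toRingHom x)
    (RingHom.ext fun x => c0_truncMap p n (a13 R S).toRingHom x)
    (RingHom.ext fun x => c0_truncMap p n (a23 R S).toRingHom x)

/-- The datum of last ghost components. -/
noncomputable def pushGh (D : WDat p R S (n + 1) k) : IdDat R S k :=
  D.push (gh p n S) (gh p n (S ⊗[R] S)) (gh p n (S ⊗[R] (S ⊗[R] S)))
    (RingHom.ext fun x => gh_truncMap p n (a1 R S).toRingHom x)
    (RingHom.ext fun x => gh_truncMap p n (a2 R S).toRingHom x)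
    (RingHom.ext fun x => gh_truncMap p n (am R S).toRingHom x)
    (RingHom.ext fun x => gh_truncMap p n (a12 R S).toRingHom x)
    (RingHom.ext fun x => gh_truncMap p n (a13 R S).toRingHom x)
    (RingHom.ext fun x => gh_truncMap p n (a23 R S).toRingHom x)

/-- The truncated datum. -/
noncomputable def pushTr (D : WDat p R S (n + 2) k) : WDat p R S (n + 1) k :=
  D.push (tr p n S) (tr p n (S ⊗[R] S)) (tr p n (S ⊗[R] (S ⊗[R] S)))
    (RingHom.ext fun x => tr_truncMap p n (a1 R S).toRingHom x)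
    (RingHom.ext fun x => tr_truncMap p n (a2 R S).toRingHom x)
    (RingHom.ext fun x => tr_truncMap p n (am R S).toRingHom x)
    (RingHom.ext fun x => tr_truncMap p n (a12 R S).toRingHom x)
    (RingHom.ext fun x => tr_truncMap p n (a13 R S).toRingHom x)
    (RingHom.ext fun x => tr_truncMap p n (a23 R S).toRingHom x)

theorem push0_pushTr_inv (D : WDat p R S (n + 2) k) {x : Fin k → S} :
    (push0 (pushTr D)).Inv x ↔ (push0 D).Inv x := by
  have h : ∀ {C : Type u} [CommRing C] {a b : Type} (M : Matrix a b (TruncatedWittVector p (n + 2) C)),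
      (M.map (tr p n C)).map (c0 p n C) = M.map (c0 p (n + 1) C) := fun M => by
    ext i j
    exact c0_tr p n (M i j)
  unfold Dat.Inv
  simp only [push0, pushTr, Dat.push, h]

theorem vtop_comp_mulVec {C : Type u} [CommRing C] (M : Matrix (Fin k) (Fin k) (TruncatedWittVector p (n + 1) C))
    (r : Fin k → C) : M *ᵥ (vtop p n C ∘ r) = vtop p n C ∘ (M.map (gh p n C) *ᵥ r) := by
  funext i
  simp only [mulVec, dotProduct, Function.comp_apply, map_sum, mul_vtop, Matrix.map_apply]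

theorem truncMap_comp_vtop {A B : Type u} [CommRing A] [CommRing B] (f : A →+* B) (r : Fin k → A) :
    WittGrp.truncMap p (n + 1) f ∘ (vtop p n A ∘ r) = vtop p n B ∘ (f ∘ r) :=
  funext fun i => truncMap_vtop p n f (r i)

/-- Invariant vectors lift. -/
theorem exists_inv_lift [Module.FaithfullyFlat R S] :
    ∀ (n : ℕ) (D : WDat p R S (n + 1) k) (x0 : Fin k → S), (push0 D).Inv x0 →
      ∃ x, D.Inv x ∧ c0 p n S ∘ x = x0
  | 0, D, x0, h0 => by
    choose x hx using fun i => c0_surjective p 0 S (x0 i)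
    have hx' : c0 p 0 S ∘ x = x0 := funext hx
    refine ⟨x, ⟨(c0_injective_zero p S).comp_left ?_, (c0_injective_zero p _).comp_left ?_⟩, hx'⟩
    · change c0 p 0 S ∘ (D.e *ᵥ x) = c0 p 0 S ∘ x
      rw [comp_mulVec, hx']
      exact h0.1
    · have h1 : ∀ f : S →+* S ⊗[R] S, c0 p 0 _ ∘ (WittGrp.truncMap p 1 f ∘ x) = f ∘ x0 := fun f =>
        funext fun i => (c0_truncMap p 0 f (x i)).trans (congrArg f (hx i))
      change c0 p 0 _ ∘ (D.Φ *ᵥ _) = c0 p 0 _ ∘ (_ ∘ x)
      rw [comp_mulVec, h1, h1]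
      exact h0.2
  | n + 1, D, x0, h0 => by
    obtain ⟨x'', hx'', hc0⟩ := exists_inv_lift n (pushTr D) x0 ((push0_pushTr_inv D).2 h0)
    choose x' hx' using fun i => tr_surjective p n S (x'' i)
    let x1 := D.e *ᵥ x'
    have hx1 : tr p n S ∘ x1 = x'' := by
      refine (comp_mulVec (tr p n S) D.e x').trans ?_
      rw [show tr p n S ∘ x' = x'' from funext hx']
      exact hx''.1
    let i1 := WittGrp.truncMap p (n + 2) (a1 R S).toRingHom
    let i2 := WittGrp.truncMap p (n + 2) (a2 R S).toRingHom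
    let k12 := WittGrp.truncMap p (n + 2) (a12 R S).toRingHom
    let k13 := WittGrp.truncMap p (n + 2) (a13 R S).toRingHom
    let k23 := WittGrp.truncMap p (n + 2) (a23 R S).toRingHom
    let c := D.Φ *ᵥ (i1 ∘ x1) - i2 ∘ x1
    have hc0' : ∀ i, tr p n _ (c i) = 0 := fun i => by
      have h1 : ∀ f : S →+* S ⊗[R] S,
          tr p n _ ∘ (WittGrp.truncMap p (n + 2) f ∘ x1) = WittGrp.truncMap p (n + 1) f ∘ x'' := fun f =>
        funext fun j => (tr_truncMap p n f (x1 j)).trans (congrArg _ (congrFun hx1 j))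
      change tr p n _ ((D.Φ *ᵥ (i1 ∘ x1)) i - (i2 ∘ x1) i) = 0
      rw [map_sub, sub_eq_zero]
      exact (congrFun ((comp_mulVec (tr p n _) D.Φ (i1 ∘ x1)).trans ((congrArg _ (h1 _)).trans
        (hx''.2.trans (h1 _).symm))) i)
    choose r hr using fun i => exists_vtop_of_tr_eq_zero p n (c i) (hc0' i)
    have hcr : vtop p (n + 1) _ ∘ r = c := funext hr
    have hex1 : D.e *ᵥ x1 = x1 := D.mulVec_e x'
    have hec : D.e.map i2 *ᵥ c = c := by
      change D.e.map i2 *ᵥ (D.Φ *ᵥ (i1 ∘ x1) - i2 ∘ x1) = _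
      rw [mulVec_sub, mulVec_mulVec, D.hl, ← comp_mulVec i2, hex1]
    have hsub : ∀ f : TruncatedWittVector p (n + 2) (S ⊗[R] S) →+*
        TruncatedWittVector p (n + 2) (S ⊗[R] (S ⊗[R] S)),
        f ∘ c = D.Φ.map f *ᵥ (f ∘ (i1 ∘ x1)) - f ∘ (i2 ∘ x1) := fun f => funext fun i => by
      rw [← comp_mulVec f]
      exact map_sub f _ _
    have hs : ∀ {f g : S ⊗[R] S →+* S ⊗[R] (S ⊗[R] S)} {a b : S →+* S ⊗[R] S}
        (_ : ∀ s, f (a s) = g (b s)),
        WittGrp.truncMap p (n + 2) f ∘ (WittGrp.truncMap p (n + 2) a ∘ x1) =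
          WittGrp.truncMap p (n + 2) g ∘ (WittGrp.truncMap p (n + 2) b ∘ x1) := fun {f g a b} h =>
      funext fun i => TruncatedWittVector.ext fun j => by
        simp only [Function.comp_apply, WittGrp.coeff_truncMap, h]
    have h1122 : k12 ∘ (i2 ∘ x1) = k23 ∘ (i1 ∘ x1) := hs (a12_a2 R S)
    have h1121 : k12 ∘ (i1 ∘ x1) = k13 ∘ (i1 ∘ x1) :=
      hs fun s => (a12_a1 R S s).trans (a13_a1 R S s).symm
    have h1322 : k13 ∘ (i2 ∘ x1) = k23 ∘ (i2 ∘ x1) := hs (a13_a2 R S)
    have hcoc : D.Φ.map k23 *ᵥ (k12 ∘ c) + k23 ∘ c = k13 ∘ c := by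
      rw [hsub, hsub, hsub, mulVec_sub, mulVec_mulVec, D.hc, h1121, h1122, h1322]
      abel
    have hr1 : (pushGh D).e.map (a2 R S) *ᵥ r = r := by
      refine (vtop_injective p (n + 1) _).comp_left ?_
      have hm : (pushGh D).e.map (a2 R S) = (D.e.map i2).map (gh p (n + 1) _) := by
        ext i j
        exact (gh_truncMap p (n + 1) (a2 R S).toRingHom (D.e i j)).symm
      change vtop p (n + 1) _ ∘ _ = vtop p (n + 1) _ ∘ r
      rw [hm, ← vtop_comp_mulVec, hcr, hec]
    have hr2 : (pushGh D).Φ.map (a23 R S) *ᵥ (a12 R S ∘ r) + a23 R S ∘ r = a13 R S ∘ r := by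
      refine (vtop_injective p (n + 1) _).comp_left ?_
      have hm : (pushGh D).Φ.map (a23 R S) = (D.Φ.map k23).map (gh p (n + 1) _) := by
        ext i j
        exact (gh_truncMap p (n + 1) (a23 R S).toRingHom (D.Φ i j)).symm
      have hk : ∀ f : S ⊗[R] S →ₐ[R] S ⊗[R] (S ⊗[R] S),
          vtop p (n + 1) _ ∘ (f ∘ r) = WittGrp.truncMap p (n + 2) f.toRingHom ∘ c := fun f => by
        rw [← hcr, truncMap_comp_vtop]
        rfl
      have hadd : ∀ u v : Fin k → S ⊗[R] (S ⊗[R] S),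
          vtop p (n + 1) _ ∘ (u + v) = vtop p (n + 1) _ ∘ u + vtop p (n + 1) _ ∘ v := fun u v =>
        funext fun i => map_add _ _ _
      change vtop p (n + 1) _ ∘ _ = vtop p (n + 1) _ ∘ (a13 R S ∘ r)
      rw [hadd, hm, ← vtop_comp_mulVec, hk, hk, hk]
      exact hcoc
    obtain ⟨ε, hε1, hε2⟩ := exists_coboundary (pushGh D) r hr1 hr2
    have hv1 : D.e *ᵥ (vtop p (n + 1) S ∘ ε) = vtop p (n + 1) S ∘ ε := by
      rw [vtop_comp_mulVec]
      exact congrArg _ hε1
    have hv2 : D.Φ *ᵥ (i1 ∘ (vtop p (n + 1) S ∘ ε)) - i2 ∘ (vtop p (n + 1) S ∘ ε) = c := by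
      rw [truncMap_comp_vtop, truncMap_comp_vtop, vtop_comp_mulVec, ← hcr, ← hε2]
      funext i
      exact (map_sub (vtop p (n + 1) (S ⊗[R] S)) _ _).symm
    refine ⟨x1 - vtop p (n + 1) S ∘ ε, ⟨by rw [mulVec_sub, hex1, hv1], ?_⟩, ?_⟩
    · have hsubi : ∀ (f : TruncatedWittVector p (n + 2) S →+* TruncatedWittVector p (n + 2) (S ⊗[R] S))
          (u v : Fin k → TruncatedWittVector p (n + 2) S), f ∘ (u - v) = f ∘ u - f ∘ v := fun f u v =>
        funext fun i => map_sub f _ _
      rw [hsubi, hsubi, mulVec_sub]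
      change D.Φ *ᵥ (i1 ∘ x1) - D.Φ *ᵥ (i1 ∘ (vtop p (n + 1) S ∘ ε)) = _
      rw [eq_sub_iff_add_eq, sub_add_eq_add_sub, add_sub_assoc, ← neg_sub, hv2]
      change _ + -(D.Φ *ᵥ (i1 ∘ x1) - i2 ∘ x1) = i2 ∘ x1
      abel
    · funext i
      change c0 p (n + 1) S (x1 i - vtop p (n + 1) S (ε i)) = x0 i
      rw [map_sub, ← c0_tr, ← c0_tr, tr_vtop, map_zero, sub_zero, ← congrFun hc0 i]
      exact congrArg _ (congrFun hx1 i)

theorem isNilpotent_of_isNilpotent_entries {A : Type u} [CommRing A] {ι : Type} [Fintype ι] [DecidableEq ι]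
    (M : Matrix ι ι A) (h : ∀ i j, IsNilpotent (M i j)) : IsNilpotent M := by
  let I : Ideal A := Ideal.span (Set.range fun q : ι × ι => M q.1 q.2)
  have hfg : I.FG := Submodule.fg_span (Set.finite_range _)
  have hI : IsNilpotent I := hfg.isNilpotent_iff_le_nilradical.2 (Ideal.span_le.2 (by
    rintro _ ⟨q, rfl⟩
    exact h q.1 q.2))
  obtain ⟨N, hN⟩ := hI
  have hmem : ∀ m i j, (M ^ m) i j ∈ I ^ m := by
    intro m
    induction m with
    | zero => intro i j; simp
    | succ m ih =>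
      intro i j
      rw [pow_succ, pow_succ, Matrix.mul_apply]
      exact Ideal.sum_mem _ fun l _ => Ideal.mul_mem_mul (ih i l) (Ideal.subset_span ⟨(l, j), rfl⟩)
  refine ⟨N, ?_⟩
  ext i j
  have := hmem N i j
  rw [hN] at this
  exact Ideal.mem_bot.1 this

theorem isUnit_of_c0_eq_one {C : Type u} [CommRing C] (hpC : IsNilpotent (p : C)) {ι : Type} [Fintype ι]
    [DecidableEq ι] (M : Matrix ι ι (TruncatedWittVector p (n + 1) C)) (h : M.map (c0 p n C) = 1) :
    IsUnit M := by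
  rw [Matrix.isUnit_iff_isUnit_det]
  have h1 : c0 p n C (M.det - 1) = 0 := by
    rw [map_sub, map_one, RingHom.map_det]
    change (M.map (c0 p n C)).det - 1 = 0
    rw [h, Matrix.det_one, sub_self]
  have := (isNilpotent_of_c0_eq_zero p hpC n _ h1).isUnit_add_one
  rwa [sub_add_cancel] at this

/-- The module of a descent datum over truncated Witt vectors comes from an idempotent over `W(R)`. -/
theorem exists_frame [Module.FaithfullyFlat R S] (hpR : IsNilpotent (p : R)) (D : WDat p R S (n + 1) k) :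
    ∃ (l : ℕ) (Q : Matrix (Fin l) (Fin l) (TruncatedWittVector p (n + 1) R))
      (Y : Matrix (Fin k) (Fin l) (TruncatedWittVector p (n + 1) S))
      (Z : Matrix (Fin l) (Fin k) (TruncatedWittVector p (n + 1) S)),
      Q * Q = Q ∧ D.e * Y = Y ∧
      D.Φ * Y.map (WittGrp.truncMap p (n + 1) (a1 R S).toRingHom) =
        Y.map (WittGrp.truncMap p (n + 1) (a2 R S).toRingHom) ∧
      Y * Q.map (WittGrp.truncMap p (n + 1) (algebraMap R S)) = Y ∧ Z * D.e = Z ∧ Y * Z = D.e ∧
      Z * Y = Q.map (WittGrp.truncMap p (n + 1) (algebraMap R S)) := by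
  have hpS : IsNilpotent (p : S) := by
    have := hpR.map (algebraMap R S)
    rwa [map_natCast] at this
  obtain ⟨l, q, y, z, hq, hy, hyq, hze, hyz, hzy⟩ := exists_inv_frame (push0 D)
  let f := (c0 p n R).mapMatrix (m := Fin l)
  obtain ⟨Q, hQ, hQq⟩ := exists_isIdempotentElem_eq_of_ker_isNilpotent f
    (fun M hM => isNilpotent_of_isNilpotent_entries M fun i j =>
      isNilpotent_of_c0_eq_zero p hpR n _ (congrArg (fun N : Matrix (Fin l) (Fin l) R => N i j) (RingHom.mem_ker.1 hM)))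
    q ⟨Matrix.of fun i j => (c0_surjective p n R (q i j)).choose, by
      ext i j; exact (c0_surjective p n R (q i j)).choose_spec⟩ hq
  let ι := WittGrp.truncMap p (n + 1) (algebraMap R S)
  let i1 := WittGrp.truncMap p (n + 1) (a1 R S).toRingHom
  let i2 := WittGrp.truncMap p (n + 1) (a2 R S).toRingHom
  choose w hw using fun j => exists_inv_lift n D (fun i => y i j) (hy j)
  let Y0 : Matrix (Fin k) (Fin l) (TruncatedWittVector p (n + 1) S) := Matrix.of fun i j => w j i
  have hY0e : D.e * Y0 = Y0 := by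
    refine Matrix.ext fun i j => ?_
    exact congrFun (hw j).1.1 i
  have hY0Φ : D.Φ * Y0.map i1 = Y0.map i2 := by
    refine Matrix.ext fun i j => ?_
    exact congrFun (hw j).1.2 i
  have hY0c : Y0.map (c0 p n S) = y := by
    refine Matrix.ext fun i j => ?_
    exact congrFun (hw j).2 i
  choose z0 hz0 using fun i j => c0_surjective p n S (z i j)
  let Z0 : Matrix (Fin l) (Fin k) (TruncatedWittVector p (n + 1) S) := Matrix.of z0
  have hZ0c : Z0.map (c0 p n S) = z := by
    refine Matrix.ext fun i j => ?_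
    exact hz0 i j
  have hιq : (Q.map ι).map (c0 p n S) = q.map (algebraMap R S) := by
    rw [← hQq]
    refine Matrix.ext fun i j => ?_
    exact c0_truncMap p n _ (Q i j)
  have hιQ : Q.map ι * Q.map ι = Q.map ι := by rw [← Matrix.map_mul, hQ]
  have hι12 : (Q.map ι).map i1 = (Q.map ι).map i2 := by
    refine Matrix.ext fun i j => ?_
    refine TruncatedWittVector.ext fun t => ?_
    simp only [Matrix.map_apply, i1, i2, ι, WittGrp.coeff_truncMap]
    exact ((a1 R S).commutes _).trans ((a2 R S).commutes _).symm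
  let Y := Y0 * Q.map ι
  let Z := Q.map ι * Z0 * D.e
  have heY : D.e * Y = Y := by rw [← Matrix.mul_assoc, hY0e]
  have hYQ : Y * Q.map ι = Y := by rw [Matrix.mul_assoc, hιQ]
  have hQZ : Q.map ι * Z = Z := by rw [← Matrix.mul_assoc, ← Matrix.mul_assoc, hιQ]
  have hZe : Z * D.e = Z := by rw [Matrix.mul_assoc, D.he]
  have hΦY : D.Φ * Y.map i1 = Y.map i2 := by
    rw [Matrix.map_mul, Matrix.map_mul, ← Matrix.mul_assoc, hY0Φ, hι12]
  have hYc : Y.map (c0 p n S) = y := by rw [Matrix.map_mul, hY0c, hιq, hyq]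
  have hZc : Z.map (c0 p n S) = q.map (algebraMap R S) * z := by
    rw [Matrix.map_mul, Matrix.map_mul, hZ0c, hιq, Matrix.mul_assoc]
    exact congrArg _ hze
  have hec : D.e.map (c0 p n S) = (push0 D).e := rfl
  obtain ⟨u, hu⟩ := isUnit_of_c0_eq_one hpS (Y * Z + (1 - D.e)) (by
    rw [Matrix.map_add _ (map_add _), Matrix.map_mul, hYc, hZc, ← Matrix.mul_assoc, hyq, hyz,
      Matrix.map_sub _ (map_sub _), Matrix.map_one _ (map_zero _) (map_one _), hec, add_sub_cancel])
  obtain ⟨v, hv⟩ := isUnit_of_c0_eq_one hpS (Z * Y + (1 - Q.map ι)) (by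
    rw [Matrix.map_add _ (map_add _), Matrix.map_mul, hYc, hZc, Matrix.mul_assoc, hzy,
      Matrix.map_sub _ (map_sub _), Matrix.map_one _ (map_zero _) (map_one _), hιq,
      ← Matrix.map_mul, hq, add_sub_cancel])
  have heu : D.e * (u : Matrix (Fin k) (Fin k) (TruncatedWittVector p (n + 1) S)) = Y * Z := by
    rw [hu, Matrix.mul_add, Matrix.mul_sub, Matrix.mul_one, D.he, sub_self, add_zero, ← Matrix.mul_assoc, heY]
  have he' : D.e = Y * Z * ((u⁻¹ : _ˣ) : Matrix (Fin k) (Fin k) (TruncatedWittVector p (n + 1) S)) := by rw [← heu, Units.mul_inv_cancel_right]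
  have hvQ : (v : Matrix (Fin l) (Fin l) _) * Q.map ι = Z * Y := by
    rw [hv, Matrix.add_mul, Matrix.sub_mul, Matrix.one_mul, hιQ, sub_self, add_zero, Matrix.mul_assoc, hYQ]
  have hQ' : Q.map ι = ((v⁻¹ : _ˣ) : Matrix (Fin l) (Fin l) (TruncatedWittVector p (n + 1) S)) * (Z * Y) := by rw [← hvQ, Units.inv_mul_cancel_left]
  let Z' := Z * ((u⁻¹ : _ˣ) : Matrix (Fin k) (Fin k) (TruncatedWittVector p (n + 1) S)) * D.e
  have hYZ : Y * Z' = D.e := by
    rw [← Matrix.mul_assoc, ← Matrix.mul_assoc, ← he', D.he]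
  refine ⟨l, Q, Y, Z', hQ, heY, hΦY, hYQ, by rw [Matrix.mul_assoc, D.he], hYZ, ?_⟩
  have hd1 : Y * (Z' * Y - Q.map ι) = 0 := by
    rw [Matrix.mul_sub, ← Matrix.mul_assoc, hYZ, heY, hYQ, sub_self]
  have hd2 : Q.map ι * (Z' * Y - Q.map ι) = Z' * Y - Q.map ι := by
    simp only [Z', Matrix.mul_sub, ← Matrix.mul_assoc, hQZ, hιQ]
  rw [← sub_eq_zero]
  conv_lhs => rw [← hd2]
  generalize Z' * Y - Q.map ι = d at hd1
  rw [hQ', Matrix.mul_assoc, Matrix.mul_assoc Z, hd1, Matrix.mul_zero, Matrix.mul_zero]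

end Groth.WittDesc
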