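import Groth.Prelude.Def_W4c3truncdispsmoothDesc
import Groth.Agent.WittDesc.Glue
import Groth.Agent.WittDesc.MatDesc
import Groth.Agent.Calg7.WittEffective

/-!
# Descent of finite projective modules over truncated Witt vectors
-/

set_option autoImplicit false
set_option backward.isDefEq.respectTransparency false
set_option backward.isDefEq.respectTransparency.types false
set_option linter.unusedSectionVars false

universe u

open CategoryTheory Opposite Matrix

namespace Groth.WittDesc

open Groth.DescentBase.RingDD (f0)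

variable (p : ℕ) [Fact p.Prime] (n : ℕ)

/-- `A ↦ W_n(A)` on the opposite of the category of affine schemes. -/
noncomputable abbrev GW : (CommRingCat.{u}ᵒᵖ)ᵒᵖ ⥤ CommRingCat.{u} :=
  unopUnop CommRingCat.{u} ⋙ W4c3truncdispsmooth.wittTrunc p n

variable (R S : Type u) [CommRing R] [CommRing S] [Algebra R S] [Module.FaithfullyFlat R S]

theorem truncMap_algebraMap_injective :
    Function.Injective (WittGrp.truncMap p n (algebraMap R S)) := fun a b h => by
  refine TruncatedWittVector.ext fun i => FaithfulSMul.algebraMap_injective R S ?_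
  have := congrArg (fun z => TruncatedWittVector.coeff i z) h
  simpa only [WittGrp.coeff_truncMap] using this

theorem exists_of_truncMap_eq (b : TruncatedWittVector p n S)
    (h : WittGrp.truncMap p n (a1 R S).toRingHom b = WittGrp.truncMap p n (a2 R S).toRingHom b) :
    ∃ a, WittGrp.truncMap p n (algebraMap R S) a = b := by
  have hc : ∀ i, ∃ r, algebraMap R S r = b.coeff i := fun i => by
    refine Groth.Calg7.WittEff.mem_range_of_eq _ ?_
    have := congrArg (fun z => TruncatedWittVector.coeff i z) h
    simp only [WittGrp.coeff_truncMap] at this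
    exact this
  choose r hr using hc
  exact ⟨TruncatedWittVector.mk p r,
    TruncatedWittVector.ext fun i => by rw [WittGrp.coeff_truncMap, TruncatedWittVector.coeff_mk, hr]⟩

theorem exists_dual_basis {A : Type u} [CommRing A] (M : Type u) [AddCommGroup M] [Module A M]
    [Module.Finite A M] [Module.Projective A M] :
    ∃ (k : ℕ) (f : M →ₗ[A] (Fin k → A)) (s : (Fin k → A) →ₗ[A] M), ∀ m, s (f m) = m := by
  obtain ⟨k, s, hs⟩ := Module.Finite.exists_fin' A M
  obtain ⟨f, hf⟩ := Module.projective_lifting_property s LinearMap.id hs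
  exact ⟨k, f, s, fun m => LinearMap.congr_fun hf m⟩

theorem exists_frame' (hp : IsNilpotent (p : R)) {k : ℕ} (D : WDat p R S n k) :
    ∃ (l : ℕ) (Q : Matrix (Fin l) (Fin l) (TruncatedWittVector p n R))
      (Y : Matrix (Fin k) (Fin l) (TruncatedWittVector p n S))
      (Z : Matrix (Fin l) (Fin k) (TruncatedWittVector p n S)),
      Q * Q = Q ∧ D.e * Y = Y ∧
      D.Φ * Y.map (WittGrp.truncMap p n (a1 R S).toRingHom) = Y.map (WittGrp.truncMap p n (a2 R S).toRingHom) ∧
      Y * Z = D.e ∧ Z * Y = Q.map (WittGrp.truncMap p n (algebraMap R S)) := by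
  match n, D with
  | 0, D =>
    have h1 : ∀ (C : Type u) (a b : TruncatedWittVector p 0 C), a = b := fun C a b => funext fun i => i.elim0
    exact ⟨0, 0, 0, 0, Subsingleton.elim _ _, Matrix.ext fun i j => h1 _ _ _,
      Matrix.ext fun i j => h1 _ _ _, Matrix.ext fun i j => h1 _ _ _, Matrix.ext fun i j => h1 _ _ _⟩
  | n + 1, D =>
    obtain ⟨l, Q, Y, Z, h1, h2, h3, -, -, h6, h7⟩ := exists_frame hp D
    exact ⟨l, Q, Y, Z, h1, h2, h3, h6, h7⟩

theorem descent_effective (hp : IsNilpotent (p : R)) (D : WDD (GW p n) R S)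
    [Module.Finite ((GW p n).obj (op (op (CommRingCat.of S)))) (WN D)]
    [Module.Projective ((GW p n).obj (op (op (CommRingCat.of S)))) (WN D)] :
    ∃ M : FMod (GW p n) (CommRingCat.of R),
      Module.Finite ((GW p n).obj (op (op (CommRingCat.of R)))) M ∧
        Module.Projective ((GW p n).obj (op (op (CommRingCat.of R)))) M ∧ Nonempty (canW M ≅ D) := by
  obtain ⟨k, fD, sD, hsf⟩ :=
    exists_dual_basis (A := (GW p n).obj (op (op (CommRingCat.of S)))) (WN D)
  obtain ⟨l, Q, Y, Z, hQ, hY, hΦ, hYZ, hZY⟩ := exists_frame' p n R S hp (toDat hsf : WDat p R S n k)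
  exact ⟨qMod (G := GW p n) Q, qMod_finite, qMod_projective hQ, nonempty_canW_iso hsf hQ hY hΦ hYZ hZY⟩

theorem descent_fullyFaithful (M N : FMod (GW p n) (CommRingCat.of R))
    [Module.Finite ((GW p n).obj (op (op (CommRingCat.of R)))) N]
    [Module.Projective ((GW p n).obj (op (op (CommRingCat.of R)))) N] :
    Function.Bijective (fun l : M ⟶ N => (toWDD (GW p n) R S).map l) := by
  obtain ⟨k, f, s, hsf⟩ :=
    exists_dual_basis (A := (GW p n).obj (op (op (CommRingCat.of R)))) N
  exact map_bijective hsf (truncMap_algebraMap_injective p n R S) (exists_of_truncMap_eq p n R S)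

end Groth.WittDesc

namespace Groth.WittDesc

universe v₁ v₂ u₁ u₂

variable {C₁ : Type u₁} [Category.{v₁} C₁] {C₂ : Type u₂} [Category.{v₂} C₂]

/-- A functor on a morphism, as a definition rather than a projection. -/
def tmap (F : C₁ ⥤ C₂) {M N : C₁} (l : M ⟶ N) : F.obj M ⟶ F.obj N := F.map l

theorem bijective_tmap (F : C₁ ⥤ C₂) {M N : C₁} (h : Function.Bijective (fun l : M ⟶ N => F.map l)) :
    Function.Bijective (fun l : M ⟶ N => tmap F l) := h

theorem bijective_of_tmap (F : C₁ ⥤ C₂) {M N : C₁} (h : Function.Bijective (fun l : M ⟶ N => tmap F l)) :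
    Function.Bijective (fun l : M ⟶ N => F.map l) := h

end Groth.WittDesc

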