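import Groth.Agent.WittDesc.Dat

/-!
# Descent data in matrices along a faithfully flat ring map
-/

set_option autoImplicit false

universe u

open Matrix TensorProduct

namespace Groth.WittDesc

section maps

variable (R S : Type u) [CommRing R] [CommRing S] [Algebra R S]

/-- The first coprojection. -/
noncomputable abbrev a1 : S →ₐ[R] S ⊗[R] S := Algebra.TensorProduct.includeLeft

/-- The second coprojection. -/
noncomputable abbrev a2 : S →ₐ[R] S ⊗[R] S := Algebra.TensorProduct.includeRight

/-- The fold map. -/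
noncomputable abbrev am : S ⊗[R] S →ₐ[R] S := Algebra.TensorProduct.lmul' R

/-- The projection `(1, 2)`. -/
noncomputable abbrev a12 : S ⊗[R] S →ₐ[R] S ⊗[R] (S ⊗[R] S) :=
  Algebra.TensorProduct.map (AlgHom.id R S) (a1 R S)

/-- The projection `(1, 3)`. -/
noncomputable abbrev a13 : S ⊗[R] S →ₐ[R] S ⊗[R] (S ⊗[R] S) :=
  Algebra.TensorProduct.map (AlgHom.id R S) (a2 R S)

/-- The projection `(2, 3)`. -/
noncomputable abbrev a23 : S ⊗[R] S →ₐ[R] S ⊗[R] (S ⊗[R] S) := Algebra.TensorProduct.includeRight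

/-- Descent data in matrices along `R → S`. -/
abbrev IdDat (k : ℕ) := Dat (a1 R S).toRingHom (a2 R S).toRingHom (am R S).toRingHom
  (a12 R S).toRingHom (a13 R S).toRingHom (a23 R S).toRingHom k

theorem a12_a1 (s : S) : a12 R S (a1 R S s) = s ⊗ₜ (1 ⊗ₜ 1) := by
  simp

theorem a13_a1 (s : S) : a13 R S (a1 R S s) = s ⊗ₜ (1 ⊗ₜ 1) := by
  simp

theorem a12_a2 (s : S) : a12 R S (a2 R S s) = a23 R S (a1 R S s) := by simp

theorem a13_a2 (s : S) : a13 R S (a2 R S s) = a23 R S (a2 R S s) := by simp

theorem am_a1 (s : S) : am R S (a1 R S s) = s := by simp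

theorem am_a2 (s : S) : am R S (a2 R S s) = s := by simp

/-- `S ⊗ T^k ≅ (S ⊗ T)^k`. -/
noncomputable abbrev pr (k : ℕ) (T : Type u) [AddCommGroup T] [Module R T] :
    S ⊗[R] (Fin k → T) ≃ₗ[S] (Fin k → S ⊗[R] T) :=
  TensorProduct.piRight R S S fun _ : Fin k => T

theorem pr_tmul (k : ℕ) (T : Type u) [AddCommGroup T] [Module R T] (s : S) (f : Fin k → T) :
    pr R S k T (s ⊗ₜ f) = fun j => s ⊗ₜ f j := by
  ext j; simp

theorem smul_eq_a1_mul (s : S) (t : S ⊗[R] S) : s • t = a1 R S s * t := by
  induction t using TensorProduct.induction_on with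
  | zero => simp
  | tmul a b => simp [TensorProduct.smul_tmul']
  | add a b ha hb => rw [smul_add, mul_add, ha, hb]

theorem am_smul (s : S) (t : S ⊗[R] S) : am R S (s • t) = s * am R S t := by
  rw [smul_eq_a1_mul, map_mul, am_a1]

end maps

variable {R S : Type u} [CommRing R] [CommRing S] [Algebra R S] {k : ℕ} (D : IdDat R S k)

/-- The projection onto the module. -/
noncomputable def eLin : (Fin k → S) →ₗ[R] (Fin k → S) := D.e.mulVecLin.restrictScalars R

/-- The coboundary `x ↦ Φ x₁ - x₂`. -/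
noncomputable def delta : (Fin k → S) →ₗ[R] (Fin k → S ⊗[R] S) :=
  (D.Φ.mulVecLin.restrictScalars R ∘ₗ (a1 R S).toLinearMap.compLeft (Fin k) -
    (a2 R S).toLinearMap.compLeft (Fin k)) ∘ₗ eLin D

theorem delta_apply (x : Fin k → S) :
    delta D x = D.Φ *ᵥ (a1 R S ∘ (D.e *ᵥ x)) - a2 R S ∘ (D.e *ᵥ x) := rfl

theorem pr_lTensor_delta (z : S ⊗[R] (Fin k → S)) :
    pr R S k (S ⊗[R] S) (LinearMap.lTensor S (delta D) z) =
      D.Φ.map (a23 R S) *ᵥ (a12 R S ∘ (D.e.map (a2 R S) *ᵥ pr R S k S z)) -
        a13 R S ∘ (D.e.map (a2 R S) *ᵥ pr R S k S z) := by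
  induction z using TensorProduct.induction_on with
  | zero =>
    simp only [map_zero, mulVec_zero]
    funext i; simp
  | add a b ha hb =>
    simp only [map_add, ha, hb, mulVec_add]
    funext i
    simp only [Pi.add_apply, Pi.sub_apply, Function.comp_apply, map_add, mulVec, dotProduct, mul_add,
      Finset.sum_add_distrib]
    ring
  | tmul a x =>
    rw [LinearMap.lTensor_tmul, pr_tmul, pr_tmul, delta_apply]
    have h1 : (fun j => a ⊗ₜ[R] x j) = a1 R S a • (a2 R S ∘ x) := by
      funext j; simp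
    have h2 : D.e.map (a2 R S) *ᵥ (fun j => a ⊗ₜ[R] x j) = a1 R S a • (a2 R S ∘ (D.e *ᵥ x)) := by
      rw [h1, mulVec_smul]
      exact congrArg _ (comp_mulVec (a2 R S).toRingHom _ _).symm
    rw [h2]
    generalize D.e *ᵥ x = y
    have h3 : (a12 R S ∘ (a1 R S a • (a2 R S ∘ y)) : Fin k → _) =
        (a ⊗ₜ[R] ((1 : S) ⊗ₜ[R] (1 : S))) • (a23 R S ∘ (a1 R S ∘ y)) := by
      funext j
      simp only [Function.comp_apply, Pi.smul_apply, smul_eq_mul, map_mul, a12_a1, a12_a2]
    have h4 : (a13 R S ∘ (a1 R S a • (a2 R S ∘ y)) : Fin k → _) =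
        (a ⊗ₜ[R] ((1 : S) ⊗ₜ[R] (1 : S))) • (a23 R S ∘ (a2 R S ∘ y)) := by
      funext j
      simp only [Function.comp_apply, Pi.smul_apply, smul_eq_mul, map_mul, a13_a1, a13_a2]
    rw [h3, h4, mulVec_smul]
    have h5 : D.Φ.map (a23 R S) *ᵥ (a23 R S ∘ (a1 R S ∘ y)) = a23 R S ∘ (D.Φ *ᵥ (a1 R S ∘ y)) :=
      (comp_mulVec (a23 R S).toRingHom _ _).symm
    rw [h5]
    funext j
    simp only [Pi.smul_apply, Pi.sub_apply, Function.comp_apply, smul_eq_mul, ← mul_sub, ← map_sub]
    simp [← Algebra.TensorProduct.one_def]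

/-- Cocycles are coboundaries. -/
theorem exists_coboundary [Module.FaithfullyFlat R S] (c : Fin k → S ⊗[R] S)
    (hec : D.e.map (a2 R S) *ᵥ c = c)
    (hc : D.Φ.map (a23 R S) *ᵥ (a12 R S ∘ c) + a23 R S ∘ c = a13 R S ∘ c) :
    ∃ x, D.e *ᵥ x = x ∧ D.Φ *ᵥ (a1 R S ∘ x) - a2 R S ∘ x = c := by
  let Q := LinearMap.range (delta D)
  have hmem : c ∈ Q := by
    have h0 : Q.mkQ c = 0 := by
      refine Module.FaithfullyFlat.tensorProduct_mk_injective (A := R) (B := S) _ ?_
      change (1 : S) ⊗ₜ[R] Q.mkQ c = (1 : S) ⊗ₜ[R] 0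
      rw [TensorProduct.tmul_zero]
      let z : S ⊗[R] (Fin k → S) := (pr R S k S).symm c
      have hz : (1 : S) ⊗ₜ[R] c = LinearMap.lTensor S (delta D) (-z) := by
        refine (pr R S k (S ⊗[R] S)).injective ?_
        rw [pr_tmul, map_neg, map_neg, pr_lTensor_delta, LinearEquiv.apply_symm_apply, hec, ← hc,
          neg_sub, add_sub_cancel_left]
        rfl
      rw [← LinearMap.lTensor_tmul, hz, ← LinearMap.comp_apply, ← LinearMap.lTensor_comp,
        LinearMap.range_mkQ_comp, LinearMap.lTensor_zero, LinearMap.zero_apply]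
    exact (Submodule.Quotient.mk_eq_zero Q).1 h0
  obtain ⟨x, hx⟩ := hmem
  exact ⟨D.e *ᵥ x, D.mulVec_e x, hx⟩

/-- The invariant vectors. -/
noncomputable def E0 : Submodule R (Fin k → S) := (LinearMap.ker (delta D)).map (eLin D)

theorem inv_of_mem {x : Fin k → S} (hx : x ∈ E0 D) : D.Inv x := by
  obtain ⟨y, hy, rfl⟩ := hx
  refine ⟨D.mulVec_e y, ?_⟩
  have : delta D y = 0 := hy
  exact sub_eq_zero.1 this

/-- The coaction. -/
noncomputable def psi (x : Fin k → S) : Fin k → S ⊗[R] S := D.Φ *ᵥ (a1 R S ∘ x)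

/-- The natural map `S ⊗ E₀ → S^k`. -/
noncomputable def theta : S ⊗[R] E0 D →ₗ[S] (Fin k → S) :=
  LinearMap.liftBaseChange S (E0 D).subtype

theorem theta_mem (t : S ⊗[R] E0 D) : D.e *ᵥ theta D t = theta D t := by
  induction t using TensorProduct.induction_on with
  | zero => simp
  | tmul s y =>
    rw [theta, LinearMap.liftBaseChange_tmul, mulVec_smul]
    exact congrArg (s • ·) (inv_of_mem D y.2).1
  | add a b ha hb => rw [map_add, mulVec_add, ha, hb]

theorem pr_lTensor_subtype (t : S ⊗[R] E0 D) :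
    pr R S k S (LinearMap.lTensor S (E0 D).subtype t) = psi D (theta D t) := by
  induction t using TensorProduct.induction_on with
  | zero => rw [map_zero, map_zero, map_zero, psi]; funext i; simp [mulVec, dotProduct]
  | add a b ha hb =>
    rw [map_add, map_add, map_add, ha, hb, psi, psi, psi, ← mulVec_add]
    congr 1
    funext i
    simp only [Pi.add_apply, Function.comp_apply, map_add]
  | tmul s y =>
    rw [LinearMap.lTensor_tmul, theta, LinearMap.liftBaseChange_tmul, psi]
    have h1 : a1 R S ∘ (s • ((E0 D).subtype y)) = a1 R S s • (a1 R S ∘ (y : Fin k → S)) := by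
      funext i; simp [Function.comp_apply, map_mul]
    have h7 : D.Φ *ᵥ (a1 R S ∘ (y : Fin k → S)) = a2 R S ∘ (y : Fin k → S) := (inv_of_mem D y.2).2
    rw [h1, mulVec_smul, h7, pr_tmul]
    funext i; simp

theorem exists_theta_eq [Module.FaithfullyFlat R S] (x : Fin k → S) :
    ∃ t, theta D t = D.e *ᵥ x := by
  let z : S ⊗[R] (Fin k → S) := (pr R S k S).symm (psi D x)
  have hz : LinearMap.lTensor S (delta D) z = 0 := by
    refine (pr R S k (S ⊗[R] S)).injective ?_
    have hψ : D.e.map (a2 R S) *ᵥ psi D x = psi D x := by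
      rw [psi, mulVec_mulVec]
      exact congrArg (· *ᵥ _) D.hl
    have h1 : ∀ f : S ⊗[R] S →ₐ[R] S ⊗[R] (S ⊗[R] S),
        f ∘ psi D x = D.Φ.map f *ᵥ (f ∘ (a1 R S ∘ x)) := fun f => comp_mulVec f.toRingHom _ _
    have h2 : a12 R S ∘ (a1 R S ∘ x) = a13 R S ∘ (a1 R S ∘ x) := funext fun j => by
      simp only [Function.comp_apply, a12_a1, a13_a1]
    rw [map_zero, pr_lTensor_delta, LinearEquiv.apply_symm_apply, hψ, h1, h1, mulVec_mulVec, h2, sub_eq_zero]
    exact congrArg (· *ᵥ _) D.hc
  obtain ⟨w, hw⟩ := (Module.Flat.lTensor_exact S (LinearMap.exact_subtype_ker_map (delta D)) z).1 hz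
  let l : LinearMap.ker (delta D) →ₗ[R] E0 D :=
    LinearMap.codRestrict _ (eLin D ∘ₗ (LinearMap.ker (delta D)).subtype)
      fun y => Submodule.mem_map_of_mem y.2
  refine ⟨LinearMap.lTensor S l w, ?_⟩
  have h3 : ∀ w, theta D (LinearMap.lTensor S l w) =
      D.e *ᵥ (am R S ∘ pr R S k S (LinearMap.lTensor S (LinearMap.ker (delta D)).subtype w)) := by
    intro w
    induction w using TensorProduct.induction_on with
    | zero => simp only [map_zero]; rw [eq_comm]; funext i; simp [mulVec, dotProduct]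
    | add a b ha hb =>
      rw [map_add, map_add, map_add, map_add, ha, hb, ← mulVec_add]
      congr 1
      funext i
      simp only [Pi.add_apply, Function.comp_apply, map_add]
    | tmul s y =>
      rw [LinearMap.lTensor_tmul, LinearMap.lTensor_tmul, pr_tmul, theta, LinearMap.liftBaseChange_tmul]
      have h4 : am R S ∘ (fun j => s ⊗ₜ[R] (y : Fin k → S) j) = s • (y : Fin k → S) := by
        funext j; simp
      refine Eq.trans ?_ (congrArg (D.e *ᵥ ·) h4).symm
      exact (mulVec_smul D.e s (y : Fin k → S)).symm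
  rw [h3, hw, LinearEquiv.apply_symm_apply, psi]
  have h4 : am R S ∘ (D.Φ *ᵥ (a1 R S ∘ x)) = D.Φ.map (am R S) *ᵥ (am R S ∘ (a1 R S ∘ x)) :=
    comp_mulVec (am R S).toRingHom _ _
  have h5 : am R S ∘ (a1 R S ∘ x) = x := funext fun j => am_a1 R S (x j)
  have h6 : D.Φ.map (am R S) = D.e := D.hm
  rw [h4, h5, h6, D.mulVec_e]

/-- `S ⊗ E₀` is the module of the datum. -/
noncomputable def thetaEquiv [Module.FaithfullyFlat R S] :
    S ⊗[R] E0 D ≃ₗ[S] LinearMap.range D.e.mulVecLin :=
  LinearEquiv.ofBijective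
    (LinearMap.codRestrict _ (theta D) fun t => LinearMap.mem_range.2 ⟨theta D t, theta_mem D t⟩)
    ⟨fun a b h => by
      have h' : theta D a = theta D b := congrArg Subtype.val h
      refine Module.Flat.lTensor_preserves_injective_linearMap _ (E0 D).injective_subtype
        ((pr R S k S).injective ?_)
      rw [pr_lTensor_subtype, pr_lTensor_subtype, h'],
    fun y => by
      obtain ⟨x, hx⟩ := y.2
      obtain ⟨t, ht⟩ := exists_theta_eq D x
      exact ⟨t, Subtype.ext (ht.trans hx)⟩⟩

/-- The module of invariants, presented by an idempotent matrix. -/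
theorem exists_inv_frame [Module.FaithfullyFlat R S] :
    ∃ (l : ℕ) (q : Matrix (Fin l) (Fin l) R) (y : Matrix (Fin k) (Fin l) S) (z : Matrix (Fin l) (Fin k) S),
      q * q = q ∧ (∀ j, D.Inv (fun i => y i j)) ∧ y * q.map (algebraMap R S) = y ∧ z * D.e = z ∧
        y * z = D.e ∧ z * y = q.map (algebraMap R S) := by
  have hfinS : Module.Finite S (LinearMap.range D.e.mulVecLin) := Module.Finite.range _
  have hprojS : Module.Projective S (LinearMap.range D.e.mulVecLin) :=
    Module.Projective.of_split (LinearMap.range D.e.mulVecLin).subtype D.e.mulVecLin.rangeRestrict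
      (LinearMap.ext fun v => Subtype.ext (by
        obtain ⟨w, hw⟩ := v.2
        change D.e *ᵥ (v : Fin k → S) = v
        rw [← hw]
        exact D.mulVec_e w))
  have : Module.Finite S (S ⊗[R] E0 D) := Module.Finite.equiv (thetaEquiv D).symm
  have : Module.Projective S (S ⊗[R] E0 D) := Module.Projective.of_equiv (thetaEquiv D).symm
  have : Module.Finite R (E0 D) := Module.Finite.of_finite_tensorProduct_of_faithfullyFlat S
  have : Module.Flat R (E0 D) := Module.Flat.of_flat_tensorProduct R (E0 D) S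
  obtain ⟨l, pi, hpi⟩ := Module.Finite.exists_fin' R (E0 D)
  have hK : Module.Finite R (LinearMap.ker pi) := by
    obtain ⟨sec, hsec⟩ := Module.projective_lifting_property (LinearMap.baseChange S pi)
      LinearMap.id (LinearMap.lTensor_surjective S hpi)
    have hsplit : ∀ w, LinearMap.baseChange S pi (w - sec (LinearMap.baseChange S pi w)) = 0 := fun w => by
      rw [map_sub]
      exact sub_eq_zero.2 (LinearMap.congr_fun hsec _).symm
    have hex := Module.Flat.lTensor_exact S (LinearMap.exact_subtype_ker_map pi)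
    have hinj : Function.Injective (LinearMap.baseChange S (LinearMap.ker pi).subtype) :=
      Module.Flat.lTensor_preserves_injective_linearMap (M := S) _ (LinearMap.ker pi).injective_subtype
    choose r hr using fun w => (hex _).1 (hsplit w)
    let rL : S ⊗[R] (Fin l → R) →ₗ[S] S ⊗[R] LinearMap.ker pi :=
      { toFun := r
        map_add' := fun a b => hinj (by
          change LinearMap.lTensor S _ (r (a + b)) = LinearMap.baseChange S _ (r a + r b)
          rw [map_add]
          change _ = LinearMap.lTensor S _ (r a) + LinearMap.lTensor S _ (r b)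
          rw [hr, hr, hr, map_add, map_add]
          abel)
        map_smul' := fun s a => hinj (by
          rw [RingHom.id_apply, map_smul]
          change LinearMap.lTensor S _ (r (s • a)) = s • LinearMap.lTensor S _ (r a)
          rw [hr, hr, map_smul, map_smul, smul_sub]) }
    have : Module.Finite S (S ⊗[R] LinearMap.ker pi) := Module.Finite.of_surjective rL fun t => by
      refine ⟨LinearMap.baseChange S (LinearMap.ker pi).subtype t, hinj ?_⟩
      change LinearMap.lTensor S _ (r _) = _
      rw [hr]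
      have h0 : LinearMap.baseChange S pi (LinearMap.baseChange S (LinearMap.ker pi).subtype t) = 0 :=
        hex.apply_apply_eq_zero t
      rw [h0, map_zero, sub_zero]
    exact Module.Finite.of_finite_tensorProduct_of_faithfullyFlat S
  have : Module.FinitePresentation R (E0 D) :=
    Module.finitePresentation_of_surjective pi hpi (Module.Finite.iff_fg.1 hK)
  have : Module.Projective R (E0 D) := Module.Flat.projective_of_finitePresentation
  obtain ⟨sig, hsig⟩ := Module.projective_lifting_property pi LinearMap.id hpi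
  have hsig' : ∀ v, pi (sig v) = v := fun v => LinearMap.congr_fun hsig v
  let q : Matrix (Fin l) (Fin l) R := LinearMap.toMatrix' (sig ∘ₗ pi)
  let P : S ⊗[R] (Fin l → R) ≃ₗ[S] (Fin l → S) := TensorProduct.piScalarRight R S S (Fin l)
  let yL : (Fin l → S) →ₗ[S] (Fin k → S) :=
    (LinearMap.range D.e.mulVecLin).subtype ∘ₗ (thetaEquiv D).toLinearMap ∘ₗ
      LinearMap.baseChange S pi ∘ₗ P.symm.toLinearMap
  let zL : (Fin k → S) →ₗ[S] (Fin l → S) :=
    P.toLinearMap ∘ₗ LinearMap.baseChange S sig ∘ₗ (thetaEquiv D).symm.toLinearMap ∘ₗ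
      D.e.mulVecLin.rangeRestrict
  have hP : ∀ (j : Fin l), P.symm (Pi.single j (1 : S)) = (1 : S) ⊗ₜ[R] Pi.single j (1 : R) := fun j => by
    rw [LinearEquiv.symm_apply_eq]
    funext i
    simp [P, Pi.single_apply]
  have hcomp : ∀ t, LinearMap.baseChange S pi (LinearMap.baseChange S sig t) = t := fun t => by
    rw [← LinearMap.comp_apply, ← LinearMap.baseChange_comp, hsig, LinearMap.baseChange_id,
      LinearMap.id_apply]
  have hqL : (q.map (algebraMap R S)).toLin' =
      P.toLinearMap ∘ₗ LinearMap.baseChange S (sig ∘ₗ pi) ∘ₗ P.symm.toLinearMap := by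
    refine LinearMap.pi_ext' fun j => LinearMap.ext_ring ?_
    simp only [LinearMap.comp_apply, LinearMap.coe_single, LinearEquiv.coe_coe, hP]
    rw [toLin'_apply, mulVec_single_one, LinearMap.baseChange_tmul]
    funext i
    rw [Matrix.col_apply, Matrix.map_apply, TensorProduct.piScalarRight_apply,
      TensorProduct.piScalarRightHom_tmul]
    simp only [q, LinearMap.toMatrix'_apply, Algebra.smul_def, mul_one]
  have hyz : yL ∘ₗ zL = D.e.mulVecLin := LinearMap.ext fun v => by
    simp only [yL, zL, LinearMap.comp_apply, LinearEquiv.coe_coe, LinearEquiv.symm_apply_apply, hcomp,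
      LinearEquiv.apply_symm_apply]
    rfl
  have hze : zL ∘ₗ D.e.mulVecLin = zL := LinearMap.ext fun v => by
    simp only [zL, LinearMap.comp_apply]
    congr 3
    exact Subtype.ext (D.mulVec_e v)
  have hzy : zL ∘ₗ yL = (q.map (algebraMap R S)).toLin' := by
    rw [hqL]
    refine LinearMap.ext fun v => ?_
    simp only [yL, zL, LinearMap.comp_apply]
    have h1 : ∀ w : LinearMap.range D.e.mulVecLin,
        D.e.mulVecLin.rangeRestrict (w : Fin k → S) = w := fun w => by
      obtain ⟨u, hu⟩ := w.2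
      refine Subtype.ext ?_
      change D.e *ᵥ (w : Fin k → S) = w
      rw [← hu]
      exact D.mulVec_e u
    rw [Submodule.subtype_apply, h1]
    simp only [LinearEquiv.coe_coe, LinearEquiv.symm_apply_apply, LinearMap.baseChange_comp,
      LinearMap.comp_apply]
  have hyq : yL ∘ₗ (q.map (algebraMap R S)).toLin' = yL := by
    rw [hqL]
    refine LinearMap.ext fun v => ?_
    simp only [yL, LinearMap.comp_apply, LinearEquiv.coe_coe, LinearEquiv.symm_apply_apply,
      LinearMap.baseChange_comp, hcomp]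
  refine ⟨l, q, LinearMap.toMatrix' yL, LinearMap.toMatrix' zL, ?_, fun j => ?_, ?_, ?_, ?_, ?_⟩
  · rw [← LinearMap.toMatrix'_comp]
    congr 1
    refine LinearMap.ext fun v => ?_
    simp [hsig']
  · have hcol : (fun i => LinearMap.toMatrix' yL i j) = (pi (Pi.single j 1) : E0 D).1 := by
      funext i
      rw [LinearMap.toMatrix'_apply]
      change (theta D (LinearMap.baseChange S pi (P.symm (Pi.single j 1)))) i = _
      rw [hP, LinearMap.baseChange_tmul, theta, LinearMap.liftBaseChange_tmul, one_smul]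
      rfl
    rw [hcol]
    exact inv_of_mem D (pi (Pi.single j 1)).2
  · rw [← LinearMap.toMatrix'_toLin' (q.map (algebraMap R S)), ← LinearMap.toMatrix'_comp, hyq]
  · rw [← LinearMap.toMatrix'_toLin' D.e, ← LinearMap.toMatrix'_comp]
    exact congrArg _ hze
  · rw [← LinearMap.toMatrix'_comp, hyz]
    exact LinearMap.toMatrix'_toLin' D.e
  · rw [← LinearMap.toMatrix'_comp, hzy, LinearMap.toMatrix'_toLin']

end Groth.WittDesc
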