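import Mathlib.CategoryTheory.Sites.Descent.DescentData
import Mathlib.Algebra.Category.ModuleCat.Pseudofunctor

/-!
# Formal lemmas on descent data along a single morphism

They are stated for an arbitrary pseudofunctor. The wrappers `happ`, `iapp`, `mmap`, `cmp` and `dhom` are
definitions (not projections), so that comparing two of them compares their arguments instead of evaluating them.
-/

set_option autoImplicit false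

universe u

open CategoryTheory Opposite

namespace Groth.WittDesc.PF

variable (P : Pseudofunctor (LocallyDiscrete (CommRingCat.{u}ᵒᵖ)ᵒᵖ) Cat.{u, u + 1})
  {A B C : CommRingCat.{u}}

/-- `mapComp'` on an object. -/
noncomputable def happ (g : op B ⟶ op A) (k : op C ⟶ op B) (q : op C ⟶ op A)
    (h : g.op.toLoc ≫ k.op.toLoc = q.op.toLoc) (N : P.obj ⟨op (op A)⟩) :
    (P.map q.op.toLoc).toFunctor.obj N ⟶ (P.map k.op.toLoc).toFunctor.obj ((P.map g.op.toLoc).toFunctor.obj N) :=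
  (P.mapComp' g.op.toLoc k.op.toLoc q.op.toLoc h).hom.toNatTrans.app N

/-- The inverse of `mapComp'` on an object. -/
noncomputable def iapp (g : op B ⟶ op A) (k : op C ⟶ op B) (q : op C ⟶ op A)
    (h : g.op.toLoc ≫ k.op.toLoc = q.op.toLoc) (N : P.obj ⟨op (op A)⟩) :
    (P.map k.op.toLoc).toFunctor.obj ((P.map g.op.toLoc).toFunctor.obj N) ⟶ (P.map q.op.toLoc).toFunctor.obj N :=
  (P.mapComp' g.op.toLoc k.op.toLoc q.op.toLoc h).inv.toNatTrans.app N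

/-- The value of a transition functor on a morphism. -/
noncomputable def mmap (k : op C ⟶ op B) {X Y : P.obj ⟨op (op B)⟩} (φ : X ⟶ Y) :
    (P.map k.op.toLoc).toFunctor.obj X ⟶ (P.map k.op.toLoc).toFunctor.obj Y :=
  (P.map k.op.toLoc).toFunctor.map φ

/-- Composition in a value of a pseudofunctor. -/
noncomputable def cmp {X Y Z : P.obj ⟨op (op B)⟩} (a : X ⟶ Y) (b : Y ⟶ Z) : X ⟶ Z := a ≫ b

theorem hom_inv_app (g : op B ⟶ op A) (k : op C ⟶ op B) (q : op C ⟶ op A)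
    (h : g.op.toLoc ≫ k.op.toLoc = q.op.toLoc) (N : P.obj ⟨op (op A)⟩) :
    cmp P (happ P g k q h N) (iapp P g k q h N) = 𝟙 _ :=
  congr($((P.mapComp' g.op.toLoc k.op.toLoc q.op.toLoc h).hom_inv_id).toNatTrans.app N)

variable {P} {A₀ : CommRingCat.{u}} {f : op A ⟶ op A₀} (D : P.DescentData (fun _ : PUnit.{u + 1} => f))

/-- The descent morphisms. -/
noncomputable def dhom (q : op C ⟶ op A₀) (g₁ g₂ : op C ⟶ op A) (h₁ : g₁ ≫ f = q) (h₂ : g₂ ≫ f = q) :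
    (P.map g₁.op.toLoc).toFunctor.obj (D.obj PUnit.unit) ⟶
      (P.map g₂.op.toLoc).toFunctor.obj (D.obj PUnit.unit) :=
  D.hom q (i₁ := PUnit.unit) (i₂ := PUnit.unit) g₁ g₂ h₁ h₂

theorem dhom_eq (q q' : op C ⟶ op A₀) (g₁ g₂ : op C ⟶ op A) (h₁ : g₁ ≫ f = q) (h₂ : g₂ ≫ f = q)
    (h₁' : g₁ ≫ f = q') (h₂' : g₂ ≫ f = q') :
    dhom D q g₁ g₂ h₁ h₂ = dhom D q' g₁ g₂ h₁' h₂' := by
  subst h₁ h₁'
  rfl

theorem dhom_pull (k : op C ⟶ op B) (g₁ g₂ : op B ⟶ op A) (g₁' g₂' : op C ⟶ op A)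
    (e₁ : k ≫ g₁ = g₁') (e₂ : k ≫ g₂ = g₂') (q : op B ⟶ op A₀) (q' : op C ⟶ op A₀)
    (h₁ : g₁ ≫ f = q) (h₂ : g₂ ≫ f = q) (h₁' : g₁' ≫ f = q') (h₂' : g₂' ≫ f = q')
    (w₁ : g₁.op.toLoc ≫ k.op.toLoc = g₁'.op.toLoc) (w₂ : g₂.op.toLoc ≫ k.op.toLoc = g₂'.op.toLoc) :
    dhom D q' g₁' g₂' h₁' h₂' =
      cmp P (happ P g₁ k g₁' w₁ (D.obj PUnit.unit))
        (cmp P (mmap P k (dhom D q g₁ g₂ h₁ h₂)) (iapp P g₂ k g₂' w₂ (D.obj PUnit.unit))) :=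
  (D.pullHom_hom k q q' (by rw [← h₁, ← h₁', ← e₁, Category.assoc]) g₁ g₂ h₁ h₂ g₁' g₂' e₁ e₂).symm

theorem dhom_self (q : op C ⟶ op A₀) (g : op C ⟶ op A) (h : g ≫ f = q) :
    dhom D q g g h h = 𝟙 _ :=
  D.hom_self q g h

theorem dhom_comp (q : op C ⟶ op A₀) (g₁ g₂ g₃ : op C ⟶ op A) (h₁ : g₁ ≫ f = q) (h₂ : g₂ ≫ f = q)
    (h₃ : g₃ ≫ f = q) :
    cmp P (dhom D q g₁ g₂ h₁ h₂) (dhom D q g₂ g₃ h₂ h₃) = dhom D q g₁ g₃ h₁ h₃ :=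
  D.hom_comp q g₁ g₂ g₃ h₁ h₂ h₃

variable (P f) in
/-- The canonical descent datum. -/
noncomputable def can (M : P.obj ⟨op (op A₀)⟩) : P.DescentData (fun _ : PUnit.{u + 1} => f) :=
  (P.toDescentData (fun _ : PUnit.{u + 1} => f)).obj M

theorem dhom_ofObj (M : P.obj ⟨op (op A₀)⟩) (q : op C ⟶ op A₀) (g₁ g₂ : op C ⟶ op A)
    (h₁ : g₁ ≫ f = q) (h₂ : g₂ ≫ f = q) (w₁ : f.op.toLoc ≫ g₁.op.toLoc = q.op.toLoc)
    (w₂ : f.op.toLoc ≫ g₂.op.toLoc = q.op.toLoc) :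
    dhom ((P.toDescentData (fun _ : PUnit.{u + 1} => f)).obj M) q g₁ g₂ h₁ h₂ =
      cmp P (iapp P f g₁ q w₁ M) (happ P f g₂ q w₂ M) :=
  rfl

end Groth.WittDesc.PF

namespace Groth.WittDesc.PF

variable (Q : Pseudofunctor (LocallyDiscrete (CommRingCat.{u}ᵒᵖ)ᵒᵖ) (LocallyDiscrete CommRingCat.{u}))
  (H : Pseudofunctor (LocallyDiscrete CommRingCat.{u}) Cat.{u, u + 1})

/-- The composition isomorphism of `H` after an identification, on an object. -/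
noncomputable def capp {X Y Z : LocallyDiscrete CommRingCat.{u}} (a : X ⟶ Y) (b : Y ⟶ Z) (c : X ⟶ Z)
    (ψ : c ≅ a ≫ b) (N : H.obj X) :
    (H.map c).toFunctor.obj N ⟶ (H.map b).toFunctor.obj ((H.map a).toFunctor.obj N) :=
  (H.map₂Iso ψ ≪≫ H.mapComp a b).hom.toNatTrans.app N

theorem happ_comp {A B C : CommRingCat.{u}} (g : op B ⟶ op A) (k : op C ⟶ op B)
    (h : g.op.toLoc ≫ k.op.toLoc = (k ≫ g).op.toLoc) (N : (Q.comp H).obj ⟨op (op A)⟩) :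
    happ (Q.comp H) g k (k ≫ g) h N =
      capp H (Q.map g.op.toLoc) (Q.map k.op.toLoc) (Q.map (k ≫ g).op.toLoc)
        (Q.mapComp g.op.toLoc k.op.toLoc) N :=
  congr(($(Pseudofunctor.mapComp'_eq_mapComp (Q.comp H) g.op.toLoc k.op.toLoc)).hom.toNatTrans.app N)

end Groth.WittDesc.PF

namespace Groth.WittDesc.PF

variable {P : Pseudofunctor (LocallyDiscrete (CommRingCat.{u}ᵒᵖ)ᵒᵖ) Cat.{u, u + 1}}
  {A A₀ : CommRingCat.{u}} {f : op A ⟶ op A₀}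

theorem comm_eq {D₁ D₂ : P.DescentData (fun _ : PUnit.{u + 1} => f)} (Φ : D₁ ⟶ D₂) {C : CommRingCat.{u}}
    (q : op C ⟶ op A₀) (g₁ g₂ : op C ⟶ op A) (h₁ : g₁ ≫ f = q) (h₂ : g₂ ≫ f = q) :
    cmp P (mmap P g₁ (Φ.hom PUnit.unit)) (dhom D₂ q g₁ g₂ h₁ h₂) =
      cmp P (dhom D₁ q g₁ g₂ h₁ h₂) (mmap P g₂ (Φ.hom PUnit.unit)) :=
  Φ.comm q g₁ g₂ h₁ h₂

theorem nonempty_iso {D₁ D₂ : P.DescentData (fun _ : PUnit.{u + 1} => f)}
    (e : D₁.obj PUnit.unit ≅ D₂.obj PUnit.unit)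
    (hc : ∀ {C : CommRingCat.{u}} (g₁ g₂ : op C ⟶ op A) (h : g₁ ≫ f = g₂ ≫ f),
      cmp P (mmap P g₁ e.hom) (dhom D₂ (g₁ ≫ f) g₁ g₂ rfl h.symm) =
        cmp P (dhom D₁ (g₁ ≫ f) g₁ g₂ rfl h.symm) (mmap P g₂ e.hom)) :
    Nonempty (D₁ ≅ D₂) := by
  refine ⟨Pseudofunctor.DescentData.isoMk (fun _ => e) ?_⟩
  rintro ⟨C⟩ q ⟨⟩ ⟨⟩ g₁ g₂ h₁ h₂
  subst h₁
  exact hc g₁ g₂ h₂.symm

end Groth.WittDesc.PF
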