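import Groth.Agent.DescentBase.RingEff
import Groth.Agent.WittDesc.PF

/-!
# Descent data of modules over truncated Witt vectors, on elements
-/

set_option autoImplicit false
set_option backward.isDefEq.respectTransparency false
set_option backward.isDefEq.respectTransparency.types false
set_option linter.unusedSectionVars false

universe u

open CategoryTheory Opposite TensorProduct ModuleCat
open scoped ChangeOfRings

namespace Groth.WittDesc

open Groth.DescentBase.RingDD (et liftE liftE_et et_induction smul_et et_smul et_add et_add_left et_zero f0)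

variable (G : (CommRingCat.{u}ᵒᵖ)ᵒᵖ ⥤ CommRingCat.{u})

/-- The value of `G` on a morphism of affine schemes. -/
noncomputable abbrev fq {A B : CommRingCat.{u}} (g : op B ⟶ op A) : G.obj (op (op A)) →+* G.obj (op (op B)) :=
  (G.map g.op).hom

variable {G} {A B C : CommRingCat.{u}}

/-- Modules over `F A`. -/
abbrev FMod (G : (CommRingCat.{u}ᵒᵖ)ᵒᵖ ⥤ CommRingCat.{u}) (A : CommRingCat.{u}) := ModuleCat.{u} (G.obj (op (op A)))

/-- The composition isomorphism of extension of scalars, after any identification. -/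
noncomputable def extMor {X Y Z : CommRingCat.{u}} (a : X ⟶ Y) (b : Y ⟶ Z) (c : X ⟶ Z)
    (ψ : c.toLoc ≅ a.toLoc ≫ b.toLoc) (N : ModuleCat.{u} X) :
    (extendScalars c.hom).obj N ⟶ (extendScalars b.hom).obj ((extendScalars a.hom).obj N) :=
  PF.capp CommRingCat.moduleCatExtendScalarsPseudofunctor.{u} a.toLoc b.toLoc c.toLoc ψ N

/-- The value of the composition isomorphism of extension of scalars, after any identification. -/
theorem extPF_et {X Y Z : CommRingCat.{u}} (a : X ⟶ Y) (b : Y ⟶ Z) (c : X ⟶ Z)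
    (ψ : c.toLoc ≅ a.toLoc ≫ b.toLoc) (N : ModuleCat.{u} X) (t : Z) (m : N) :
    extMor a b c ψ N (et c.hom N t m) =
      et b.hom ((extendScalars a.hom).obj N) t (et a.hom N 1 m) := by
  have e : c = a ≫ b := congrArg Discrete.as (LocallyDiscrete.eq_of_hom ψ.hom)
  subst e
  have hψ : ψ = Iso.refl _ := Iso.ext (Subsingleton.elim _ _)
  subst hψ
  have h1 : extMor a b (a ≫ b) (Iso.refl _) N = (extendScalarsComp a.hom b.hom).hom.app N := by
    simp only [extMor, PF.capp, PrelaxFunctor.map₂Iso, Functor.mapIso_refl]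
    rfl
  refine (congr($h1 (et (a ≫ b).hom N t m))).trans ?_
  have h2 : et (a ≫ b).hom N t m = t • et (b.hom.comp a.hom) N 1 m := by
    rw [smul_et, mul_one]
    rfl
  rw [h2]
  refine (map_smul ((extendScalarsComp a.hom b.hom).hom.app N).hom t _).trans ?_
  refine (congrArg (t • ·) (extendScalarsComp_hom_app_one_tmul a.hom b.hom N m)).trans ?_
  exact (smul_et b.hom _ t 1 _).trans (by rw [mul_one]; rfl)

/-- `mapComp'` as a morphism of modules. -/
noncomputable def wmc (g : op B ⟶ op A) (k : op C ⟶ op B) (q : op C ⟶ op A)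
    (h : g.op.toLoc ≫ k.op.toLoc = q.op.toLoc) (N : FMod G A) :
    (extendScalars (fq G q)).obj N ⟶ (extendScalars (fq G k)).obj ((extendScalars (fq G g)).obj N) :=
  PF.happ (G.toPseudofunctor.comp CommRingCat.moduleCatExtendScalarsPseudofunctor.{u}) g k q h N

/-- The inverse of `mapComp'` as a morphism of modules. -/
noncomputable def wmcInv (g : op B ⟶ op A) (k : op C ⟶ op B) (q : op C ⟶ op A)
    (h : g.op.toLoc ≫ k.op.toLoc = q.op.toLoc) (N : FMod G A) :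
    (extendScalars (fq G k)).obj ((extendScalars (fq G g)).obj N) ⟶ (extendScalars (fq G q)).obj N :=
  PF.iapp (G.toPseudofunctor.comp CommRingCat.moduleCatExtendScalarsPseudofunctor.{u}) g k q h N

theorem cmp_eq {X Y Z : FMod G C} (a : X ⟶ Y) (b : Y ⟶ Z) : PF.cmp (G.toPseudofunctor.comp CommRingCat.moduleCatExtendScalarsPseudofunctor.{u}) a b = a ≫ b := rfl

theorem mmap_eq (k : op C ⟶ op B) {X Y : FMod G B} (φ : X ⟶ Y) :
    PF.mmap (G.toPseudofunctor.comp CommRingCat.moduleCatExtendScalarsPseudofunctor.{u}) k φ = (extendScalars (fq G k)).map φ := rfl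

theorem wmc_comp (g : op B ⟶ op A) (k : op C ⟶ op B) (q : op C ⟶ op A)
    (h : g.op.toLoc ≫ k.op.toLoc = q.op.toLoc) (N : FMod G A) :
    wmc g k q h N ≫ wmcInv g k q h N = 𝟙 _ :=
  (cmp_eq (wmc g k q h N) (wmcInv g k q h N)).symm.trans (PF.hom_inv_app (G.toPseudofunctor.comp CommRingCat.moduleCatExtendScalarsPseudofunctor.{u}) g k q h N)

theorem wmc_eq_extMor (g : op B ⟶ op A) (k : op C ⟶ op B)
    (h : g.op.toLoc ≫ k.op.toLoc = (k ≫ g).op.toLoc) (N : FMod G A) :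
    wmc g k (k ≫ g) h N =
      extMor (G.map g.op) (G.map k.op) (G.map (k ≫ g).op)
        (G.toPseudofunctor.mapComp g.op.toLoc k.op.toLoc) N :=
  PF.happ_comp G.toPseudofunctor CommRingCat.moduleCatExtendScalarsPseudofunctor.{u} g k h N

theorem fq_comp (g : op B ⟶ op A) (k : op C ⟶ op B) : fq G (k ≫ g) = (fq G k).comp (fq G g) :=
  congr($(G.map_comp g.op k.op).hom)

theorem wmc_et (g : op B ⟶ op A) (k : op C ⟶ op B) (q : op C ⟶ op A) (e : k ≫ g = q)
    (h : g.op.toLoc ≫ k.op.toLoc = q.op.toLoc) (N : FMod G A) (t : G.obj (op (op C))) (m : N) :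
    wmc g k q h N (et (fq G q) N t m) =
      et (fq G k) ((extendScalars (fq G g)).obj N) t (et (fq G g) N 1 m) := by
  subst e
  exact (congrArg (fun φ : (extendScalars (fq G (k ≫ g))).obj N ⟶
      (extendScalars (fq G k)).obj ((extendScalars (fq G g)).obj N) => φ (et (fq G (k ≫ g)) N t m))
      (wmc_eq_extMor g k h N)).trans
    (extPF_et (G.map g.op) (G.map k.op) (G.map (k ≫ g).op) _ N t m)

theorem wmcInv_et (g : op B ⟶ op A) (k : op C ⟶ op B) (q : op C ⟶ op A) (e : k ≫ g = q)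
    (h : g.op.toLoc ≫ k.op.toLoc = q.op.toLoc) (N : FMod G A) (t : G.obj (op (op C)))
    (b : G.obj (op (op B))) (m : N) :
    wmcInv g k q h N
      (et (fq G k) ((extendScalars (fq G g)).obj N) t (et (fq G g) N b m)) =
      et (fq G q) N (fq G k b * t) m := by
  have h0 : et (fq G k) ((extendScalars (fq G g)).obj N) t (et (fq G g) N b m) =
      et (fq G k) ((extendScalars (fq G g)).obj N) (fq G k b * t) (et (fq G g) N 1 m) := by
    rw [← et_smul, smul_et, mul_one]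
  rw [h0, ← wmc_et g k q e h N]
  have h1 : wmc g k q h N ≫ wmcInv g k q h N = 𝟙 _ := wmc_comp g k q h N
  rw [← ModuleCat.comp_apply, h1, ModuleCat.id_apply]

/-- A morphism on an element, as a definition rather than a projection. -/
noncomputable def ap {X Y : FMod G C} (φ : X ⟶ Y) (x : X) : Y := φ x

theorem ap_def {X Y : FMod G C} (φ : X ⟶ Y) (x : X) : φ x = ap φ x := rfl

theorem ap_comp {X Y Z : FMod G C} (φ : X ⟶ Y) (ψ : Y ⟶ Z) (x : X) : ap (φ ≫ ψ) x = ap ψ (ap φ x) := rfl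

theorem ap_wmcInv_et_one (g : op B ⟶ op A) (k₁ : op C ⟶ op B) (q : op C ⟶ op A) (e₁ : k₁ ≫ g = q)
    (w₁ : g.op.toLoc ≫ k₁.op.toLoc = q.op.toLoc) (N : FMod G A) (m : N) :
    ap (wmcInv g k₁ q w₁ N) (et (fq G k₁) ((extendScalars (fq G g)).obj N) 1 (et (fq G g) N 1 m)) =
      et (fq G q) N 1 m :=
  (ap_def _ _).symm.trans ((wmcInv_et g k₁ q e₁ w₁ N 1 1 m).trans (by rw [map_one, one_mul]))

theorem ap_wmc_wmcInv_et (g : op B ⟶ op A) (k₁ k₂ : op C ⟶ op B) (q : op C ⟶ op A) (e₁ : k₁ ≫ g = q)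
    (e₂ : k₂ ≫ g = q) (w₁ : g.op.toLoc ≫ k₁.op.toLoc = q.op.toLoc)
    (w₂ : g.op.toLoc ≫ k₂.op.toLoc = q.op.toLoc) (N : FMod G A) (m : N) :
    ap (wmcInv g k₁ q w₁ N ≫ wmc g k₂ q w₂ N)
      (et (fq G k₁) ((extendScalars (fq G g)).obj N) 1 (et (fq G g) N 1 m)) =
      et (fq G k₂) ((extendScalars (fq G g)).obj N) 1 (et (fq G g) N 1 m) :=
  (ap_comp (wmcInv g k₁ q w₁ N) (wmc g k₂ q w₂ N) _).trans
    ((congrArg (fun z => ap (wmc g k₂ q w₂ N) z) (ap_wmcInv_et_one g k₁ q e₁ w₁ N m)).trans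
      ((ap_def _ _).symm.trans (wmc_et g k₂ q e₂ w₂ N 1 m)))

/-- Base change of elements. -/
noncomputable def wbc {N : FMod G A} (g : op B ⟶ op A) (k : op C ⟶ op B) (g' : op C ⟶ op A)
    (e : k ≫ g = g') : (extendScalars (fq G g)).obj N →+ (extendScalars (fq G g')).obj N :=
  liftE _ N
    (AddMonoidHom.mk' (fun t => AddMonoidHom.mk' (fun m => et (fq G g') N (fq G k t) m)
        fun m m' => et_add _ _ _ _ _) fun t t' => by
      ext m
      change et (fq G g') N (fq G k (t + t')) m = _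
      rw [map_add]
      exact et_add_left _ _ _ _ _)
    fun a t m => by
      subst e
      change et _ N (fq G k (fq G g a * t)) m = et _ N (fq G k t) (a • m)
      rw [et_smul, map_mul, fq_comp]
      rfl

theorem wbc_et {N : FMod G A} (g : op B ⟶ op A) (k : op C ⟶ op B) (g' : op C ⟶ op A)
    (e : k ≫ g = g') (t : G.obj (op (op B))) (m : N) :
    wbc g k g' e (et (fq G g) N t m) = et (fq G g') N (fq G k t) m := rfl

section DD

variable {R S : Type u} [CommRing R] [CommRing S] [Algebra R S]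

/-- Descent data of `W_n`-modules along `R → S`. -/
abbrev WDD (G : (CommRingCat.{u}ᵒᵖ)ᵒᵖ ⥤ CommRingCat.{u}) (R S : Type u) [CommRing R] [CommRing S] [Algebra R S] :=
  (G.toPseudofunctor.comp CommRingCat.moduleCatExtendScalarsPseudofunctor.{u}).DescentData (fun _ : PUnit.{u + 1} => f0 R S)

/-- The module of a descent datum. -/
abbrev WN (D : WDD G R S) : FMod G (CommRingCat.of S) := D.obj PUnit.unit

/-- The descent isomorphisms as morphisms of modules. -/
noncomputable def wdh (D : WDD G R S) {C : CommRingCat.{u}} (g₁ g₂ : op C ⟶ op (CommRingCat.of S))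
    (h : g₁ ≫ f0 R S = g₂ ≫ f0 R S) :
    (extendScalars (fq G g₁)).obj (WN D) ⟶ (extendScalars (fq G g₂)).obj (WN D) :=
  PF.dhom D (g₁ ≫ f0 R S) g₁ g₂ rfl h.symm

theorem wdh_self (D : WDD G R S) {C : CommRingCat.{u}} (g : op C ⟶ op (CommRingCat.of S)) :
    wdh D g g rfl = 𝟙 _ :=
  PF.dhom_self D (g ≫ f0 R S) g rfl

theorem wdh_comp (D : WDD G R S) {C : CommRingCat.{u}} (g₁ g₂ g₃ : op C ⟶ op (CommRingCat.of S))
    (h : g₁ ≫ f0 R S = g₂ ≫ f0 R S) (h' : g₂ ≫ f0 R S = g₃ ≫ f0 R S) :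
    wdh D g₁ g₂ h ≫ wdh D g₂ g₃ h' = wdh D g₁ g₃ (h.trans h') := by
  refine (cmp_eq (wdh D g₁ g₂ h) (wdh D g₂ g₃ h')).symm.trans ?_
  have H : wdh D g₂ g₃ h' = PF.dhom D (g₁ ≫ f0 R S) g₂ g₃ h.symm (h.trans h').symm :=
    PF.dhom_eq D _ _ g₂ g₃ _ _ _ _
  rw [H]
  exact PF.dhom_comp D (g₁ ≫ f0 R S) g₁ g₂ g₃ rfl h.symm (h.trans h').symm

/-- The descent isomorphisms are natural in the test ring. -/
theorem wdh_bc (D : WDD G R S) {B C : CommRingCat.{u}} (k : op C ⟶ op B)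
    (g₁ g₂ : op B ⟶ op (CommRingCat.of S))
    (h : g₁ ≫ f0 R S = g₂ ≫ f0 R S) (g₁' g₂' : op C ⟶ op (CommRingCat.of S)) (e₁ : k ≫ g₁ = g₁')
    (e₂ : k ≫ g₂ = g₂') (m : WN D) :
    wdh D g₁' g₂' (by rw [← e₁, ← e₂, Category.assoc, Category.assoc, h])
        (et (fq G g₁') (WN D) 1 m) =
      wbc g₂ k g₂' e₂ (wdh D g₁ g₂ h (et (fq G g₁) (WN D) 1 m)) := by
  have hh : g₂' ≫ f0 R S = g₁' ≫ f0 R S := by
    rw [← e₁, ← e₂, Category.assoc, Category.assoc, h]
  have w₁ : g₁.op.toLoc ≫ k.op.toLoc = g₁'.op.toLoc := by subst e₁; rfl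
  have w₂ : g₂.op.toLoc ≫ k.op.toLoc = g₂'.op.toLoc := by subst e₂; rfl
  have H : wdh D g₁' g₂' hh.symm = wmc g₁ k g₁' w₁ (WN D) ≫
      (extendScalars (fq G k)).map (wdh D g₁ g₂ h) ≫ wmcInv g₂ k g₂' w₂ (WN D) :=
    (PF.dhom_pull D k g₁ g₂ g₁' g₂' e₁ e₂ (g₁ ≫ f0 R S) (g₁' ≫ f0 R S) rfl h.symm rfl hh w₁ w₂).trans
      ((cmp_eq (wmc g₁ k g₁' w₁ (WN D))
        (PF.cmp (G.toPseudofunctor.comp CommRingCat.moduleCatExtendScalarsPseudofunctor.{u}) (PF.mmap (G.toPseudofunctor.comp CommRingCat.moduleCatExtendScalarsPseudofunctor.{u}) k (wdh D g₁ g₂ h)) (wmcInv g₂ k g₂' w₂ (WN D)))).trans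
        (congrArg (wmc g₁ k g₁' w₁ (WN D) ≫ ·)
          ((cmp_eq (PF.mmap (G.toPseudofunctor.comp CommRingCat.moduleCatExtendScalarsPseudofunctor.{u}) k (wdh D g₁ g₂ h)) (wmcInv g₂ k g₂' w₂ (WN D))).trans
            (congrArg (· ≫ wmcInv g₂ k g₂' w₂ (WN D)) (mmap_eq k (wdh D g₁ g₂ h))))))
  rw [H, ModuleCat.comp_apply, ModuleCat.comp_apply, wmc_et g₁ k g₁' e₁ w₁, Groth.DescentBase.RingDD.map_et]
  generalize wdh D g₁ g₂ h (et (fq G g₁) (WN D) 1 m) = x
  induction x using et_induction with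
  | h0 => rw [et_zero, map_zero, map_zero]
  | ht t m => rw [wmcInv_et g₂ k g₂' e₂ w₂, wbc_et, mul_one]
  | ha a b ha hb => rw [et_add, map_add, map_add, ha, hb]

/-- The functor to descent data. -/
noncomputable abbrev toWDD (G : (CommRingCat.{u}ᵒᵖ)ᵒᵖ ⥤ CommRingCat.{u}) (R S : Type u) [CommRing R] [CommRing S]
    [Algebra R S] : FMod G (CommRingCat.of R) ⥤ WDD G R S :=
  (G.toPseudofunctor.comp CommRingCat.moduleCatExtendScalarsPseudofunctor.{u}).toDescentData (fun _ : PUnit.{u + 1} => f0 R S)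

/-- The canonical descent datum of a module. -/
noncomputable abbrev canW (M : FMod G (CommRingCat.of R)) : WDD G R S := (toWDD G R S).obj M

/-- The extension of scalars of a module to `G(S)`. -/
noncomputable abbrev CN (S : Type u) [CommRing S] [Algebra R S] (M : FMod G (CommRingCat.of R)) :
    FMod G (CommRingCat.of S) :=
  (extendScalars (fq G (f0 R S))).obj M

/-- The element `1 ⊗ m` of a canonical descent datum. -/
noncomputable def wcel (M : FMod G (CommRingCat.of R)) (m : M) : CN S M :=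
  et (fq G (f0 R S)) M 1 m

/-- The descent morphisms of a canonical descent datum. -/
noncomputable def canDh (M : FMod G (CommRingCat.of R)) {C : CommRingCat.{u}}
    (g₁ g₂ : op C ⟶ op (CommRingCat.of S)) (h : g₁ ≫ f0 R S = g₂ ≫ f0 R S) :
    (extendScalars (fq G g₁)).obj (CN S M) ⟶ (extendScalars (fq G g₂)).obj (CN S M) :=
  wdh (canW M) g₁ g₂ h

theorem canDh_eq (M : FMod G (CommRingCat.of R)) {C : CommRingCat.{u}}
    (g₁ g₂ : op C ⟶ op (CommRingCat.of S)) (h : g₁ ≫ f0 R S = g₂ ≫ f0 R S)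
    (w₁ : (f0 R S).op.toLoc ≫ g₁.op.toLoc = (g₁ ≫ f0 R S).op.toLoc)
    (w₂ : (f0 R S).op.toLoc ≫ g₂.op.toLoc = (g₁ ≫ f0 R S).op.toLoc) :
    canDh M g₁ g₂ h = wmcInv (f0 R S) g₁ (g₁ ≫ f0 R S) w₁ M ≫ wmc (f0 R S) g₂ (g₁ ≫ f0 R S) w₂ M :=
  (PF.dhom_ofObj (P := (G.toPseudofunctor.comp CommRingCat.moduleCatExtendScalarsPseudofunctor.{u})) M (g₁ ≫ f0 R S) g₁ g₂ rfl h.symm w₁ w₂).trans
    (cmp_eq (wmcInv (f0 R S) g₁ (g₁ ≫ f0 R S) w₁ M) (wmc (f0 R S) g₂ (g₁ ≫ f0 R S) w₂ M))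

theorem canDh_et (M : FMod G (CommRingCat.of R)) {C : CommRingCat.{u}}
    (g₁ g₂ : op C ⟶ op (CommRingCat.of S)) (h : g₁ ≫ f0 R S = g₂ ≫ f0 R S) (m : M) :
    canDh M g₁ g₂ h (et (fq G g₁) (CN S M) 1 (wcel M m)) = et (fq G g₂) (CN S M) 1 (wcel M m) := by
  have w₁ : (f0 R S).op.toLoc ≫ g₁.op.toLoc = (g₁ ≫ f0 R S).op.toLoc := rfl
  have w₂ : (f0 R S).op.toLoc ≫ g₂.op.toLoc = (g₁ ≫ f0 R S).op.toLoc := by rw [h]; rfl
  exact (ap_def (canDh M g₁ g₂ h) _).trans
    ((congrArg (fun φ : (extendScalars (fq G g₁)).obj (CN S M) ⟶ (extendScalars (fq G g₂)).obj (CN S M) =>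
        ap φ (et (fq G g₁) (CN S M) 1 (et (fq G (f0 R S)) M 1 m))) (canDh_eq M g₁ g₂ h w₁ w₂)).trans
      (ap_wmc_wmcInv_et (f0 R S) g₁ g₂ (g₁ ≫ f0 R S) rfl h.symm w₁ w₂ M m))

end DD

end Groth.WittDesc
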