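import Mathlib

/-!
# Descent data in matrices

A descent datum for a finite projective module, written as an idempotent `e` and a matrix `Φ` over the double ring.
-/

set_option autoImplicit false

universe u v

open Matrix

namespace Groth.WittDesc

/-- `f (A *ᵥ v) = f A *ᵥ f v`. -/
theorem comp_mulVec {A B : Type u} [CommRing A] [CommRing B] (f : A →+* B) {m n : Type*} [Fintype n]
    (M : Matrix m n A) (v : n → A) : f ∘ (M *ᵥ v) = M.map f *ᵥ (f ∘ v) :=
  funext fun i => f.map_mulVec M v i

/-- A descent datum in matrices, relative to two coprojections `i1 i2 : A → B`, the fold `m : B → A`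
and the three maps `k12 k13 k23 : B → C`. -/
structure Dat {A B C : Type u} [CommRing A] [CommRing B] [CommRing C] (i1 i2 : A →+* B) (m : B →+* A)
    (k12 k13 k23 : B →+* C) (k : ℕ) where
  /-- the idempotent cutting out the module -/
  e : Matrix (Fin k) (Fin k) A
  /-- the descent isomorphism -/
  Φ : Matrix (Fin k) (Fin k) B
  he : e * e = e
  hl : e.map i2 * Φ = Φ
  hr : Φ * e.map i1 = Φ
  hm : Φ.map m = e
  hc : Φ.map k23 * Φ.map k12 = Φ.map k13

namespace Dat

variable {A B C : Type u} [CommRing A] [CommRing B] [CommRing C] {i1 i2 : A →+* B} {m : B →+* A}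
    {k12 k13 k23 : B →+* C} {k : ℕ} (D : Dat i1 i2 m k12 k13 k23 k)

/-- Invariant vectors. -/
def Inv (x : Fin k → A) : Prop := D.e *ᵥ x = x ∧ D.Φ *ᵥ (i1 ∘ x) = i2 ∘ x

theorem mulVec_e (v : Fin k → A) : D.e *ᵥ (D.e *ᵥ v) = D.e *ᵥ v := by rw [mulVec_mulVec, D.he]

variable {A' B' C' : Type u} [CommRing A'] [CommRing B'] [CommRing C'] {i1' i2' : A' →+* B'}
    {m' : B' →+* A'} {k12' k13' k23' : B' →+* C'}

theorem map_map_eq {X Y Z Y' : Type u} [CommRing X] [CommRing Y] [CommRing Z] [CommRing Y'] {f : X →+* Y}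
    {g : Y →+* Z} {f' : X →+* Y'} {g' : Y' →+* Z} (h : g.comp f = g'.comp f') {a b : Type*} (M : Matrix a b X) :
    (M.map f).map g = (M.map f').map g' := by
  ext i j
  exact RingHom.congr_fun h (M i j)

/-- Change of the rings of a descent datum along compatible maps. -/
def push (a : A →+* A') (b : B →+* B') (c : C →+* C') (h1 : b.comp i1 = i1'.comp a)
    (h2 : b.comp i2 = i2'.comp a) (hm' : a.comp m = m'.comp b) (h12 : c.comp k12 = k12'.comp b)
    (h13 : c.comp k13 = k13'.comp b) (h23 : c.comp k23 = k23'.comp b) :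
    Dat i1' i2' m' k12' k13' k23' k where
  e := D.e.map a
  Φ := D.Φ.map b
  he := by rw [← Matrix.map_mul, D.he]
  hl := by rw [← map_map_eq h2, ← Matrix.map_mul, D.hl]
  hr := by rw [← map_map_eq h1, ← Matrix.map_mul, D.hr]
  hm := by rw [← map_map_eq hm', D.hm]
  hc := by rw [← map_map_eq h12, ← map_map_eq h13, ← map_map_eq h23, ← Matrix.map_mul, D.hc]

end Dat

end Groth.WittDesc
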