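import Groth.Agent.WittDesc.Cat
import Groth.Agent.WittDesc.Amitsur

/-!
# Coordinates on descent data of finite projective modules over truncated Witt vectors
-/

set_option autoImplicit false
set_option backward.isDefEq.respectTransparency false
set_option backward.isDefEq.respectTransparency.types false
set_option linter.unusedSectionVars false

universe u

open CategoryTheory Opposite TensorProduct ModuleCat Matrix
open scoped ChangeOfRings

namespace Groth.WittDesc

open Groth.DescentBase.RingDD (et liftE liftE_et et_induction smul_et et_smul et_add et_add_left et_zero f0)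

variable {G : (CommRingCat.{u}ᵒᵖ)ᵒᵖ ⥤ CommRingCat.{u}} {k : ℕ} {A B C : CommRingCat.{u}} {M : FMod G A}
  (f : M →ₗ[G.obj (op (op A))] (Fin k → G.obj (op (op A))))

/-- Coordinates in a base change. -/
noncomputable def co (g : op B ⟶ op A) :
    (extendScalars (fq G g)).obj M →+ (Fin k → G.obj (op (op B))) :=
  liftE _ M
    (AddMonoidHom.mk' (fun t => AddMonoidHom.mk' (fun m => t • (fq G g ∘ f m)) fun m m' => by
      funext i
      simp only [map_add, Pi.add_apply, Pi.smul_apply, Function.comp_apply, smul_eq_mul, mul_add])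
      fun t t' => by
        ext m i
        change (t + t') * _ = t * _ + t' * _
        exact add_mul _ _ _)
    fun a t m => by
      funext i
      change fq G g a * t * fq G g (f m i) = t * fq G g (f (a • m) i)
      rw [map_smul, Pi.smul_apply, smul_eq_mul, map_mul]
      ring

theorem co_et (g : op B ⟶ op A) (t : G.obj (op (op B))) (m : M) :
    co f g (et (fq G g) M t m) = t • (fq G g ∘ f m) := rfl

theorem co_et_one (g : op B ⟶ op A) (m : M) : co f g (et (fq G g) M 1 m) = fq G g ∘ f m := by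
  rw [co_et, one_smul]

theorem co_smul (g : op B ⟶ op A) (r : G.obj (op (op B)))
    (y : (extendScalars (fq G g)).obj M) : co f g (r • y) = r • co f g y := by
  induction y using et_induction with
  | h0 => rw [smul_zero, map_zero, smul_zero]
  | ht t m => rw [smul_et, co_et, co_et, mul_smul]
  | ha a b ha hb => rw [smul_add, map_add, map_add, smul_add, ha, hb]

theorem co_wbc (g : op B ⟶ op A) (q : op C ⟶ op B) (g' : op C ⟶ op A) (e : q ≫ g = g')
    (y : (extendScalars (fq G g)).obj M) : co f g' (wbc g q g' e y) = fq G q ∘ co f g y := by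
  induction y using et_induction with
  | h0 => rw [map_zero, map_zero, map_zero]; funext i; exact (map_zero _).symm
  | ht t m =>
    rw [wbc_et, co_et, co_et]
    funext i
    subst e
    simp only [Pi.smul_apply, Function.comp_apply, smul_eq_mul, map_mul, fq_comp, RingHom.coe_comp]
  | ha a b ha hb =>
    rw [map_add, map_add, map_add, ha, hb]
    funext i
    exact (map_add _ _ _).symm

variable {f} {s : (Fin k → G.obj (op (op A))) →ₗ[G.obj (op (op A))] M}

/-- The dual generators. -/
noncomputable def gen (s : (Fin k → G.obj (op (op A))) →ₗ[G.obj (op (op A))] M)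
    (j : Fin k) : M := s (Pi.single j 1)

theorem eq_sum_gen (hsf : ∀ m, s (f m) = m) (m : M) : m = ∑ j, f m j • gen s j := by
  conv_lhs => rw [← hsf m, pi_eq_sum_univ' (f m)]
  simp only [map_sum, map_smul, gen]

theorem et_one_eq_sum (hsf : ∀ m, s (f m) = m) (g : op B ⟶ op A) (m : M) :
    et (fq G g) M 1 m = ∑ j, fq G g (f m j) • et (fq G g) M 1 (gen s j) := by
  let E : M →+ (extendScalars (fq G g)).obj M :=
    AddMonoidHom.mk' (fun x => et (fq G g) M 1 x) fun x y => et_add _ _ _ _ _
  change E m = _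
  conv_lhs => rw [eq_sum_gen hsf m, map_sum]
  refine Finset.sum_congr rfl fun j _ => ?_
  change et (fq G g) M 1 (f m j • gen s j) = _
  rw [et_smul, smul_et]

theorem eq_sum_co (hsf : ∀ m, s (f m) = m) (g : op B ⟶ op A) (y : (extendScalars (fq G g)).obj M) :
    y = ∑ j, co f g y j • et (fq G g) M 1 (gen s j) := by
  induction y using et_induction with
  | h0 => simp
  | ht t m =>
    have h : et (fq G g) M t m = t • et (fq G g) M 1 m := by rw [smul_et, mul_one]
    rw [h, co_smul, co_et_one]
    conv_lhs => rw [et_one_eq_sum hsf g m, Finset.smul_sum]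
    refine Finset.sum_congr rfl fun j _ => ?_
    rw [Pi.smul_apply, smul_eq_mul, Function.comp_apply, mul_smul]
  | ha a b ha hb =>
    rw [map_add]
    simp only [Pi.add_apply, add_smul, Finset.sum_add_distrib]
    rw [← ha, ← hb]

theorem co_injective (hsf : ∀ m, s (f m) = m) (g : op B ⟶ op A) : Function.Injective (co f g) :=
  fun x y h => by rw [eq_sum_co hsf g x, eq_sum_co hsf g y, h]

section Datum

variable {R S : Type u} [CommRing R] [CommRing S] [Algebra R S]

/-- A ring map as a morphism of affine schemes. -/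
abbrev opHom {X Y : Type u} [CommRing X] [CommRing Y] (φ : X →+* Y) :
    op (CommRingCat.of Y) ⟶ op (CommRingCat.of X) := (CommRingCat.ofHom φ).op

variable (R S) in
theorem opHom_a_condition :
    opHom (a1 R S).toRingHom ≫ f0 R S = opHom (a2 R S).toRingHom ≫ f0 R S := by
  apply Quiver.Hom.unop_inj
  ext r
  exact ((a1 R S).commutes r).trans ((a2 R S).commutes r).symm

/-- The map from the double ring attached to a pair of maps. -/
theorem exists_factor {C : CommRingCat.{u}} (g₁ g₂ : op C ⟶ op (CommRingCat.of S))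
    (h : g₁ ≫ f0 R S = g₂ ≫ f0 R S) :
    ∃ q : op C ⟶ op (CommRingCat.of (S ⊗[R] S)),
      q ≫ opHom (a1 R S).toRingHom = g₁ ∧ q ≫ opHom (a2 R S).toRingHom = g₂ := by
  let : Algebra R C := ((g₁ ≫ f0 R S).unop.hom).toAlgebra
  let φ₁ : S →ₐ[R] C := { g₁.unop.hom with commutes' := fun r => rfl }
  let φ₂ : S →ₐ[R] C := { g₂.unop.hom with commutes' := fun r => congr(($h.symm).unop.hom r) }
  refine ⟨(CommRingCat.ofHom (Algebra.TensorProduct.productMap φ₁ φ₂).toRingHom).op, ?_, ?_⟩
  · apply Quiver.Hom.unop_inj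
    ext x
    exact Algebra.TensorProduct.productMap_left_apply φ₁ φ₂ x
  · apply Quiver.Hom.unop_inj
    ext x
    exact Algebra.TensorProduct.productMap_right_apply φ₁ φ₂ x

variable (D : WDD G R S)
  (fD : WN D →ₗ[G.obj (op (op (CommRingCat.of S)))] (Fin k → G.obj (op (op (CommRingCat.of S)))))
  (sD : (Fin k → G.obj (op (op (CommRingCat.of S)))) →ₗ[G.obj (op (op (CommRingCat.of S)))] WN D)

/-- The matrix of the descent isomorphism. -/
noncomputable def mPhi : Matrix (Fin k) (Fin k) (G.obj (op (op (CommRingCat.of (S ⊗[R] S))))) :=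
  Matrix.of fun i j => co fD (opHom (a2 R S).toRingHom)
    (wdh D (opHom (a1 R S).toRingHom) (opHom (a2 R S).toRingHom) (opHom_a_condition R S)
      (et (fq G (opHom (a1 R S).toRingHom)) (WN D) 1 (gen sD j))) i

variable {D fD sD}

theorem co_wdh_a (hsf : ∀ m, sD (fD m) = m) (m : WN D) :
    co fD (opHom (a2 R S).toRingHom)
      (wdh D (opHom (a1 R S).toRingHom) (opHom (a2 R S).toRingHom) (opHom_a_condition R S)
        (et (fq G (opHom (a1 R S).toRingHom)) (WN D) 1 m)) =
      mPhi D fD sD *ᵥ (fq G (opHom (a1 R S).toRingHom) ∘ fD m) := by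
  conv_lhs => rw [et_one_eq_sum hsf, map_sum, map_sum]
  simp only [map_smul, co_smul]
  funext i
  simp only [Finset.sum_apply, Pi.smul_apply, smul_eq_mul, mulVec, dotProduct, mPhi, Matrix.of_apply,
    Function.comp_apply]
  exact Finset.sum_congr rfl fun j _ => mul_comm _ _

theorem co_wdh (hsf : ∀ m, sD (fD m) = m) {C : CommRingCat.{u}}
    (q : op C ⟶ op (CommRingCat.of (S ⊗[R] S))) (g₁ g₂ : op C ⟶ op (CommRingCat.of S))
    (e₁ : q ≫ opHom (a1 R S).toRingHom = g₁) (e₂ : q ≫ opHom (a2 R S).toRingHom = g₂)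
    (h : g₁ ≫ f0 R S = g₂ ≫ f0 R S) (y : (extendScalars (fq G g₁)).obj (WN D)) :
    co fD g₂ (wdh D g₁ g₂ h y) = (mPhi D fD sD).map (fq G q) *ᵥ co fD g₁ y := by
  induction y using et_induction with
  | h0 => rw [map_zero, map_zero, map_zero, mulVec_zero]
  | ht t m =>
    have ht : et (fq G g₁) (WN D) t m = t • et (fq G g₁) (WN D) 1 m := by rw [smul_et, mul_one]
    rw [ht, map_smul, co_smul, co_smul, mulVec_smul,
      wdh_bc D q _ _ (opHom_a_condition R S) g₁ g₂ e₁ e₂ m, co_wbc, co_wdh_a hsf, comp_mulVec, co_et_one]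
    congr 2
    subst e₁
    funext i
    simp only [Function.comp_apply, fq_comp, RingHom.coe_comp]
  | ha a b ha hb => rw [map_add, map_add, map_add, ha, hb, mulVec_add]

theorem fD_gen (i j : Fin k) :
    (Matrix.of fun i j => fD (gen sD j) i) i j = fD (gen sD j) i := rfl

variable (G R S) in
/-- Descent data in matrices for the rings `G(S)`, `G(S ⊗ S)`, `G(S ⊗ S ⊗ S)`. -/
abbrev GDat (k : ℕ) := Dat (fq G (opHom (a1 R S).toRingHom)) (fq G (opHom (a2 R S).toRingHom))
  (fq G (opHom (am R S).toRingHom)) (fq G (opHom (a12 R S).toRingHom)) (fq G (opHom (a13 R S).toRingHom))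
  (fq G (opHom (a23 R S).toRingHom)) k

/-- The descent datum in matrices. -/
noncomputable def toDat (hsf : ∀ m, sD (fD m) = m) : GDat G R S k where
  e := Matrix.of fun i j => fD (gen sD j) i
  Φ := mPhi D fD sD
  he := by
    ext1 i j
    rw [Matrix.mul_apply]
    conv_rhs => rw [Matrix.of_apply, eq_sum_gen hsf (gen sD j), map_sum, Finset.sum_apply]
    simp only [map_smul, Pi.smul_apply, smul_eq_mul, Matrix.of_apply, mul_comm]
  hl := by
    ext1 i j
    rw [Matrix.mul_apply]
    simp only [Matrix.map_apply, Matrix.of_apply, mPhi]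
    generalize wdh D _ _ _ _ = y
    conv_rhs => rw [eq_sum_co hsf (opHom (a2 R S).toRingHom) y, map_sum, Finset.sum_apply]
    simp only [co_smul, co_et_one, Pi.smul_apply, smul_eq_mul, Function.comp_apply, mul_comm]
  hr := by
    ext1 i j
    rw [Matrix.mul_apply]
    conv_rhs => rw [mPhi, Matrix.of_apply, co_wdh_a hsf]
    rfl
  hm := by
    ext1 i j
    let μ : op (CommRingCat.of S) ⟶ op (CommRingCat.of (S ⊗[R] S)) := opHom (am R S).toRingHom
    have e₁ : μ ≫ opHom (a1 R S).toRingHom = 𝟙 _ := by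
      apply Quiver.Hom.unop_inj
      ext x
      exact am_a1 R S x
    have e₂ : μ ≫ opHom (a2 R S).toRingHom = 𝟙 _ := by
      apply Quiver.Hom.unop_inj
      ext x
      exact am_a2 R S x
    have H := congrFun (congrArg (co fD (𝟙 _))
      (wdh_bc D μ _ _ (opHom_a_condition R S) (𝟙 _) (𝟙 _) e₁ e₂ (gen sD j))) i
    rw [wdh_self, ModuleCat.id_apply, co_wbc, co_et_one] at H
    refine H.symm.trans ?_
    change fq G (𝟙 (op (CommRingCat.of S))) (fD (gen sD j) i) = fD (gen sD j) i
    exact congr($(G.map_id (op (op (CommRingCat.of S)))).hom (fD (gen sD j) i))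
  hc := by
    let k12 : op (CommRingCat.of (S ⊗[R] (S ⊗[R] S))) ⟶ op (CommRingCat.of (S ⊗[R] S)) :=
      opHom (a12 R S).toRingHom
    let k13 : op (CommRingCat.of (S ⊗[R] (S ⊗[R] S))) ⟶ op (CommRingCat.of (S ⊗[R] S)) :=
      opHom (a13 R S).toRingHom
    let k23 : op (CommRingCat.of (S ⊗[R] (S ⊗[R] S))) ⟶ op (CommRingCat.of (S ⊗[R] S)) :=
      opHom (a23 R S).toRingHom
    let g₁ := k12 ≫ opHom (a1 R S).toRingHom
    let g₂ := k12 ≫ opHom (a2 R S).toRingHom
    let g₃ := k13 ≫ opHom (a2 R S).toRingHom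
    have e13 : k13 ≫ opHom (a1 R S).toRingHom = g₁ := by
      apply Quiver.Hom.unop_inj
      ext x
      exact (a13_a1 R S x).trans (a12_a1 R S x).symm
    have e231 : k23 ≫ opHom (a1 R S).toRingHom = g₂ := by
      apply Quiver.Hom.unop_inj
      ext x
      exact (a12_a2 R S x).symm
    have e232 : k23 ≫ opHom (a2 R S).toRingHom = g₃ := by
      apply Quiver.Hom.unop_inj
      ext x
      exact (a13_a2 R S x).symm
    have h12 : g₁ ≫ f0 R S = g₂ ≫ f0 R S := by
      simp only [g₁, g₂, Category.assoc, opHom_a_condition]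
    have h23 : g₂ ≫ f0 R S = g₃ ≫ f0 R S := by
      rw [← e231, ← e232, Category.assoc, Category.assoc, opHom_a_condition]
    ext1 i j
    have H : ∀ y, (mPhi D fD sD).map (fq G k23) *ᵥ ((mPhi D fD sD).map (fq G k12) *ᵥ co fD g₁ y) =
        (mPhi D fD sD).map (fq G k13) *ᵥ co fD g₁ y := fun y => by
      rw [← co_wdh hsf k12 g₁ g₂ rfl rfl h12, ← co_wdh hsf k23 g₂ g₃ e231 e232 h23,
        ← co_wdh hsf k13 g₁ g₃ e13 rfl (h12.trans h23)]
      exact congrArg (co fD g₃) congr($(wdh_comp D g₁ g₂ g₃ h12 h23) y)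
    have H2 := congrFun (H (et (fq G g₁) (WN D) 1 (gen sD j))) i
    rw [co_et_one, mulVec_mulVec] at H2
    have hcol : ∀ (q : op (CommRingCat.of (S ⊗[R] (S ⊗[R] S))) ⟶ op (CommRingCat.of (S ⊗[R] S)))
        (_ : q ≫ opHom (a1 R S).toRingHom = g₁),
        (mPhi D fD sD).map (fq G q) *ᵥ (fq G g₁ ∘ fD (gen sD j)) =
          fun l => (mPhi D fD sD).map (fq G q) l j := by
      intro q hq
      rw [← hq]
      have h1 : fq G (q ≫ opHom (a1 R S).toRingHom) ∘ fD (gen sD j) =
          fq G q ∘ (fq G (opHom (a1 R S).toRingHom) ∘ fD (gen sD j)) := by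
        funext l
        simp only [Function.comp_apply, fq_comp, RingHom.coe_comp]
      rw [h1, ← comp_mulVec, ← co_wdh_a hsf]
      rfl
    rw [← mulVec_mulVec, hcol k12 rfl, hcol k13 e13] at H2
    rw [Matrix.mul_apply]
    exact H2

theorem toDat_e_mulVec (hsf : ∀ m, sD (fD m) = m) (v : Fin k → G.obj (op (op (CommRingCat.of S)))) :
    (toDat hsf).e *ᵥ v = fD (sD v) := by
  conv_rhs => rw [pi_eq_sum_univ' v, map_sum, map_sum]
  funext i
  simp only [toDat, mulVec, dotProduct, Matrix.of_apply, map_smul, Finset.sum_apply, Pi.smul_apply,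
    smul_eq_mul, gen, mul_comm]

end Datum

end Groth.WittDesc
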